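import Mathlib
import Cfsg.Agent.Lib.Helper5.HermBasis

set_option autoImplicit false

/-!
# Semisimple isometries: lemmas about the field `F[X]/(f)`
-/

namespace Cfsg.Agent.Lib.Helper5.SemiConj

open Polynomial Module

section fieldlevel
variable {F : Type*} [Field F] {E : Type*} [Field E] [Algebra F E] [FiniteDimensional F E]

/-- the dual of `E` is one-dimensional over `E` -/
theorem exists_mul_functional_field (lb lb' : E →ₗ[F] F) (hne' : lb' ≠ 0) :
    ∃ c : E, ∀ e, lb e = lb' (c * e) := by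
  let T : E →ₗ[F] (E →ₗ[F] F) := (LinearMap.mul F E).compr₂ lb'
  have hT : ∀ c e, T c e = lb' (c * e) := fun c e => rfl
  have hinj : Function.Injective T := by
    rw [← LinearMap.ker_eq_bot, Submodule.eq_bot_iff]
    intro c hc
    by_contra hc0
    apply hne'
    ext e
    have h1 : T c (c⁻¹ * e) = 0 := by rw [LinearMap.mem_ker.mp hc]; rfl
    rw [hT, ← mul_assoc, mul_inv_cancel₀ hc0, one_mul] at h1
    rw [h1]; rfl
  have hdim : finrank F E = finrank F (E →ₗ[F] F) := (Subspace.dual_finrank_eq (K := F) (V := E)).symm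
  have hsurj : Function.Surjective T :=
    (LinearMap.injective_iff_surjective_of_finrank_eq_finrank hdim).mp hinj
  obtain ⟨c, hc⟩ := hsurj lb
  exact ⟨c, fun e => by rw [← hc, hT]⟩

variable [Finite E]

theorem exists_norm_adjust_field (σ : F →+* F) (τ : E →+* E) (hτ2 : ∀ e, τ (τ e) = e)
    (hτ : τ ≠ RingHom.id E) (ε : F) (hε : ε ≠ 0) (lb lb' : E →ₗ[F] F) (hne : lb ≠ 0)
    (hne' : lb' ≠ 0) (hh : ∀ e, σ (lb e) = ε * lb (τ e)) (hh' : ∀ e, σ (lb' e) = ε * lb' (τ e)) :
    ∃ t : E, ∀ e, lb e = lb' (t * τ t * e) := by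
  obtain ⟨c, hc⟩ := exists_mul_functional_field lb lb' hne'
  have hc0 : c ≠ 0 := by
    rintro rfl
    apply hne
    ext e
    rw [hc, zero_mul, map_zero]; rfl
  have hτc : τ c = c := by
    by_contra hcon
    have hd : c - τ c ≠ 0 := fun h => hcon (sub_eq_zero.mp h).symm
    have key : ∀ e, lb' ((c - τ c) * τ e) = 0 := by
      intro e
      have h1 : σ (lb e) = ε * lb' (c * τ e) := by rw [hh, hc]
      have h2 : σ (lb e) = ε * lb' (τ c * τ e) := by rw [hc, hh', map_mul]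
      have h3 : lb' (c * τ e) = lb' (τ c * τ e) := mul_left_cancel₀ hε (h1.symm.trans h2)
      rw [sub_mul, map_sub, h3, sub_self]
    apply hne'
    ext e
    have := key (τ ((c - τ c)⁻¹ * e))
    rw [hτ2, ← mul_assoc, mul_inv_cancel₀ hd, one_mul] at this
    rw [this]; rfl
  obtain ⟨t, ht⟩ := Cfsg.Agent.Lib.Helper5.HermBasis.exists_norm hτ hτ2 c hc0 hτc
  exact ⟨t, fun e => by rw [ht, hc]⟩

end fieldlevel

section desc
variable {F : Type*} [Field F] (f : F[X])

theorem exists_desc (lam : F[X] →ₗ[F] F) (hl : ∀ a, lam (f * a) = 0) :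
    ∃ lb : AdjoinRoot f →ₗ[F] F, ∀ a, lb (AdjoinRoot.mk f a) = lam a := by
  let π : F[X] →ₗ[F] AdjoinRoot f := (AdjoinRoot.mkₐ f).toLinearMap
  have hπ : ∀ a, π a = AdjoinRoot.mk f a := fun a => rfl
  have hsurj : Function.Surjective π := AdjoinRoot.mk_surjective
  have hker : LinearMap.ker π ≤ LinearMap.ker lam := by
    intro a ha
    rw [LinearMap.mem_ker, hπ, AdjoinRoot.mk_eq_zero] at ha
    obtain ⟨b, rfl⟩ := ha
    exact LinearMap.mem_ker.mpr (hl b)
  refine ⟨((LinearMap.ker π).liftQ lam hker).comp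
    (π.quotKerEquivOfSurjective hsurj).symm.toLinearMap, fun a => ?_⟩
  have h1 : (π.quotKerEquivOfSurjective hsurj).symm (π a) = Submodule.Quotient.mk a := by
    rw [LinearEquiv.symm_apply_eq]; rfl
  rw [LinearMap.comp_apply, LinearEquiv.coe_coe, ← hπ, h1, Submodule.liftQ_apply]

theorem functional_congr (lam : F[X] →ₗ[F] F) (hl : ∀ a, lam (f * a) = 0) {a b : F[X]}
    (h : f ∣ a - b) : lam a = lam b := by
  obtain ⟨c, hc⟩ := h
  have : lam (a - b) = 0 := by rw [hc, hl]
  rw [map_sub, sub_eq_zero] at this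
  exact this

theorem finiteDimensional_adjoinRoot (hf : f ≠ 0) : FiniteDimensional F (AdjoinRoot f) :=
  (AdjoinRoot.powerBasis hf).finite

/-- functionals on `F[X]` killing `(f)` form a one-dimensional space over `F[X]/(f)` -/
theorem exists_mul_functional (hf : Irreducible f) (lam lam' : F[X] →ₗ[F] F)
    (hl : ∀ a, lam (f * a) = 0) (hl' : ∀ a, lam' (f * a) = 0) (hne' : lam' ≠ 0) :
    ∃ c : F[X], ∀ a, lam a = lam' (c * a) := by
  have : Fact (Irreducible f) := ⟨hf⟩
  have := finiteDimensional_adjoinRoot f hf.ne_zero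
  obtain ⟨lb, hlb⟩ := exists_desc f lam hl
  obtain ⟨lb', hlb'⟩ := exists_desc f lam' hl'
  have hne : lb' ≠ 0 := by
    rintro rfl
    apply hne'
    refine LinearMap.ext fun a => ?_
    rw [← hlb', LinearMap.zero_apply, LinearMap.zero_apply]
  obtain ⟨c, hc⟩ := exists_mul_functional_field lb lb' hne
  obtain ⟨c₀, rfl⟩ := AdjoinRoot.mk_surjective c
  exact ⟨c₀, fun a => by rw [← hlb, hc, ← map_mul, hlb']⟩

end desc

section tau
variable {F : Type*} [Field F] (σ : F →+* F) (f r : F[X])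

theorem eval₂_of_comp_mk (a : F[X]) :
    a.eval₂ ((AdjoinRoot.of f).comp σ) (AdjoinRoot.mk f r) = AdjoinRoot.mk f ((a.map σ).comp r) := by
  rw [← Polynomial.eval₂_map]
  have h1 : (AdjoinRoot.mk f).comp (C : F →+* F[X]) = AdjoinRoot.of f := by
    ext x; exact AdjoinRoot.mk_C x
  have h2 := Polynomial.hom_eval₂ (a.map σ) (C : F →+* F[X]) (AdjoinRoot.mk f) r
  rw [h1] at h2
  rw [← h2]; rfl

/-- the involution of `F[X]/(f)` induced by `σ` and `X ↦ X⁻¹` -/
noncomputable def tau (hsd : f ∣ (f.map σ).comp r) : AdjoinRoot f →+* AdjoinRoot f :=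
  AdjoinRoot.lift ((AdjoinRoot.of f).comp σ) (AdjoinRoot.mk f r) (by
    rw [eval₂_of_comp_mk, AdjoinRoot.mk_eq_zero]; exact hsd)

variable {σ f r}

theorem tau_mk (hsd : f ∣ (f.map σ).comp r) (a : F[X]) :
    tau σ f r hsd (AdjoinRoot.mk f a) = AdjoinRoot.mk f ((a.map σ).comp r) := by
  rw [tau, AdjoinRoot.lift_mk, eval₂_of_comp_mk]

theorem tau_of (hsd : f ∣ (f.map σ).comp r) (c : F) :
    tau σ f r hsd (AdjoinRoot.of f c) = AdjoinRoot.of f (σ c) := by
  rw [tau, AdjoinRoot.lift_of]; rfl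

theorem tau_root (hsd : f ∣ (f.map σ).comp r) :
    tau σ f r hsd (AdjoinRoot.root f) = AdjoinRoot.mk f r := by
  rw [tau, AdjoinRoot.lift_root]

theorem root_mul_mk (hr : f ∣ X * r - 1) : AdjoinRoot.root f * AdjoinRoot.mk f r = 1 := by
  have := AdjoinRoot.mk_eq_zero.mpr hr
  rw [map_sub, map_mul, AdjoinRoot.mk_X, map_one, sub_eq_zero] at this
  exact this

theorem tau_tau (hσ2 : ∀ a, σ (σ a) = a) (hr : f ∣ X * r - 1) (hsd : f ∣ (f.map σ).comp r)
    (e : AdjoinRoot f) : tau σ f r hsd (tau σ f r hsd e) = e := by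
  have h : (tau σ f r hsd).comp (tau σ f r hsd) = RingHom.id _ := by
    apply AdjoinRoot.ringHom_ext
    · ext c
      simp only [RingHom.comp_apply, RingHom.id_apply]
      rw [tau_of, tau_of, hσ2]
    · simp only [RingHom.comp_apply, RingHom.id_apply]
      rw [tau_root]
      have h1 := root_mul_mk hr
      have h2 : tau σ f r hsd (AdjoinRoot.root f) * tau σ f r hsd (AdjoinRoot.mk f r) = 1 := by
        rw [← map_mul, h1, map_one]
      rw [tau_root] at h2
      calc tau σ f r hsd (AdjoinRoot.mk f r)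
          = (AdjoinRoot.root f * AdjoinRoot.mk f r) * tau σ f r hsd (AdjoinRoot.mk f r) := by
            rw [h1, one_mul]
        _ = AdjoinRoot.root f * (AdjoinRoot.mk f r * tau σ f r hsd (AdjoinRoot.mk f r)) := by ring
        _ = AdjoinRoot.root f := by rw [h2, mul_one]
  exact congrArg (fun φ : AdjoinRoot f →+* AdjoinRoot f => φ e) h

theorem tau_ne_id [Fact (Irreducible f)] (hr : f ∣ X * r - 1) (hsd : f ∣ (f.map σ).comp r)
    (hnt : σ ≠ RingHom.id F ∨ ¬ f ∣ X ^ 2 - 1) : tau σ f r hsd ≠ RingHom.id _ := by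
  intro hid
  rcases hnt with h | h
  · apply h
    ext c
    have h1 : tau σ f r hsd (AdjoinRoot.of f c) = AdjoinRoot.of f c := by rw [hid]; rfl
    rw [tau_of] at h1
    exact AdjoinRoot.coe_injective' h1
  · apply h
    have h1 : tau σ f r hsd (AdjoinRoot.root f) = AdjoinRoot.root f := by rw [hid]; rfl
    rw [tau_root] at h1
    have h2 := root_mul_mk hr
    rw [h1] at h2
    rw [← AdjoinRoot.mk_eq_zero, map_sub, map_pow, AdjoinRoot.mk_X, map_one, pow_two, h2, sub_self]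

/-- the adjusting unit: nonzero hermitian functionals on `F[X]/(f)` differ by a norm -/
theorem exists_norm_adjust [Finite F] (hσ2 : ∀ a, σ (σ a) = a) (hf : Irreducible f)
    (hr : f ∣ X * r - 1) (hsd : f ∣ (f.map σ).comp r)
    (hnt : σ ≠ RingHom.id F ∨ ¬ f ∣ X ^ 2 - 1) (ε : F) (hε : ε ≠ 0)
    (lam lam' : F[X] →ₗ[F] F) (hl : ∀ a, lam (f * a) = 0) (hl' : ∀ a, lam' (f * a) = 0)
    (hne : lam ≠ 0) (hne' : lam' ≠ 0)
    (hh : ∀ a, σ (lam a) = ε * lam ((a.map σ).comp r))
    (hh' : ∀ a, σ (lam' a) = ε * lam' ((a.map σ).comp r)) :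
    ∃ u : F[X], ∀ a, lam a = lam' ((u.map σ).comp r * u * a) := by
  have : Fact (Irreducible f) := ⟨hf⟩
  have := finiteDimensional_adjoinRoot f hf.ne_zero
  have : Finite (AdjoinRoot f) := Module.finite_of_finite F
  obtain ⟨lb, hlb⟩ := exists_desc f lam hl
  obtain ⟨lb', hlb'⟩ := exists_desc f lam' hl'
  have hnb : lb ≠ 0 := by
    rintro rfl
    apply hne
    refine LinearMap.ext fun a => ?_
    rw [← hlb, LinearMap.zero_apply, LinearMap.zero_apply]
  have hnb' : lb' ≠ 0 := by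
    rintro rfl
    apply hne'
    refine LinearMap.ext fun a => ?_
    rw [← hlb', LinearMap.zero_apply, LinearMap.zero_apply]
  have hhb : ∀ e, σ (lb e) = ε * lb (tau σ f r hsd e) := by
    intro e
    obtain ⟨a, rfl⟩ := AdjoinRoot.mk_surjective e
    rw [tau_mk, hlb, hlb, hh]
  have hhb' : ∀ e, σ (lb' e) = ε * lb' (tau σ f r hsd e) := by
    intro e
    obtain ⟨a, rfl⟩ := AdjoinRoot.mk_surjective e
    rw [tau_mk, hlb', hlb', hh']
  obtain ⟨t, ht⟩ := exists_norm_adjust_field σ (tau σ f r hsd) (tau_tau hσ2 hr hsd)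
    (tau_ne_id hr hsd hnt) ε hε lb lb' hnb hnb' hhb hhb'
  obtain ⟨u, rfl⟩ := AdjoinRoot.mk_surjective t
  refine ⟨u, fun a => ?_⟩
  rw [← hlb, ht, tau_mk, ← map_mul, ← map_mul, hlb', mul_comm u]

end tau

end Cfsg.Agent.Lib.Helper5.SemiConj
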