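import Mathlib

set_option autoImplicit false

/-!
# Semisimple isometries: polynomial/operator lemmas
-/

namespace Cfsg.Agent.Lib.Helper5.SemiConj

open Polynomial Module

section basic
variable {F : Type*} [Field F] {V : Type*} [AddCommGroup V] [Module F V]

theorem pow_apply_mem (g : End F V) (S : Submodule F V) (hS : ∀ x ∈ S, g x ∈ S) (n : ℕ)
    {x : V} (hx : x ∈ S) : (g ^ n) x ∈ S := by
  induction n with
  | zero => simpa using hx
  | succ n ih => rw [pow_succ', Module.End.mul_apply]; exact hS _ ih

/-- polynomials in `g` preserve `g`-invariant submodules -/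
theorem aeval_apply_mem (g : End F V) (S : Submodule F V) (hS : ∀ x ∈ S, g x ∈ S) (a : F[X])
    {x : V} (hx : x ∈ S) : aeval g a x ∈ S := by
  induction a using Polynomial.induction_on' with
  | add p q hp hq => rw [map_add, LinearMap.add_apply]; exact S.add_mem hp hq
  | monomial n c =>
    rw [aeval_monomial, Module.End.mul_apply, Module.algebraMap_end_apply]
    exact S.smul_mem _ (pow_apply_mem g S hS n hx)

theorem aeval_mul_apply (g : End F V) (a b : F[X]) (x : V) :
    aeval g (a * b) x = aeval g a (aeval g b x) := by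
  rw [map_mul, Module.End.mul_apply]

theorem aeval_comm_apply (g : End F V) (a b : F[X]) (x : V) :
    aeval g a (aeval g b x) = aeval g b (aeval g a x) := by
  rw [← aeval_mul_apply, ← aeval_mul_apply, mul_comm]

theorem aeval_X_apply (g : End F V) (x : V) : aeval g (X : F[X]) x = g x := by
  rw [aeval_X]

theorem aeval_X_pow_apply (g : End F V) (n : ℕ) (x : V) : aeval g ((X : F[X]) ^ n) x = (g ^ n) x := by
  rw [map_pow, aeval_X]

theorem aeval_C_apply (g : End F V) (c : F) (x : V) : aeval g (C c : F[X]) x = c • x := by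
  rw [aeval_C, Module.algebraMap_end_apply]

theorem aeval_one_apply (g : End F V) (x : V) : aeval g (1 : F[X]) x = x := by
  rw [map_one, Module.End.one_apply]

/-- if `f ∣ a` and `f(g) x = 0` then `a(g) x = 0` -/
theorem aeval_apply_eq_zero_of_dvd (g : End F V) {f a : F[X]} (h : f ∣ a) {x : V}
    (hx : aeval g f x = 0) : aeval g a x = 0 := by
  obtain ⟨b, rfl⟩ := h
  rw [mul_comm, aeval_mul_apply, hx, map_zero]

/-- if `f ∣ a - b` and `f(g) x = 0` then `a(g) x = b(g) x` -/
theorem aeval_apply_congr_of_dvd (g : End F V) {f a b : F[X]} (h : f ∣ a - b) {x : V}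
    (hx : aeval g f x = 0) : aeval g a x = aeval g b x := by
  have := aeval_apply_eq_zero_of_dvd g h hx
  rw [map_sub, LinearMap.sub_apply, sub_eq_zero] at this
  exact this

/-- Irreducibility of the cyclic module generated by a vector killed by an irreducible polynomial. -/
theorem mem_of_aeval_apply_mem (g : End F V) {f : F[X]} (hf : Irreducible f) (S : Submodule F V)
    (hS : ∀ x ∈ S, g x ∈ S) {x : V} (hx : aeval g f x = 0) (a : F[X]) (ha : aeval g a x ∈ S)
    (hne : aeval g a x ≠ 0) : x ∈ S := by
  have hnd : ¬ f ∣ a := fun h => hne (aeval_apply_eq_zero_of_dvd g h hx)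
  obtain ⟨u, v, huv⟩ := (EuclideanDomain.dvd_or_coprime f a hf).resolve_left hnd
  have h1 : x = aeval g v (aeval g a x) := by
    have h2 : aeval g (u * f + v * a) x = x := by rw [huv, aeval_one_apply]
    rw [map_add, LinearMap.add_apply, aeval_mul_apply, hx, map_zero, zero_add,
      aeval_mul_apply] at h2
    exact h2.symm
  rw [h1]
  exact aeval_apply_mem g S hS v ha

/-- a polynomial prime to `f` acts injectively on vectors killed by `f(g)` -/
theorem eq_zero_of_aeval_apply_eq_zero (g : End F V) {f a : F[X]} (hf : Irreducible f)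
    (hnd : ¬ f ∣ a) {x : V} (hx : aeval g f x = 0) (ha : aeval g a x = 0) : x = 0 := by
  obtain ⟨u, v, huv⟩ := (EuclideanDomain.dvd_or_coprime f a hf).resolve_left hnd
  have h2 : aeval g (u * f + v * a) x = x := by rw [huv, aeval_one_apply]
  rw [map_add, LinearMap.add_apply, aeval_mul_apply, hx, map_zero, zero_add,
    aeval_mul_apply, ha, map_zero] at h2
  exact h2.symm

/-- a polynomial prime to `f` acts surjectively on the kernel of `f(g)` -/
theorem exists_aeval_apply_eq (g : End F V) {f a : F[X]} (hf : Irreducible f)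
    (hnd : ¬ f ∣ a) {x : V} (hx : aeval g f x = 0) :
    ∃ v : F[X], aeval g a (aeval g v x) = x := by
  obtain ⟨u, v, huv⟩ := (EuclideanDomain.dvd_or_coprime f a hf).resolve_left hnd
  refine ⟨v, ?_⟩
  have h2 : aeval g (u * f + v * a) x = x := by rw [huv, aeval_one_apply]
  rw [map_add, LinearMap.add_apply, aeval_mul_apply, hx, map_zero, zero_add,
    aeval_mul_apply, aeval_comm_apply] at h2
  exact h2

/-- two endomorphisms agreeing on an invariant submodule have the same polynomials there -/
theorem aeval_apply_eq_of_eqOn (s t : End F V) (S : Submodule F V) (hS : ∀ x ∈ S, t x ∈ S)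
    (hst : ∀ x ∈ S, s x = t x) (a : F[X]) {x : V} (hx : x ∈ S) : aeval s a x = aeval t a x := by
  have hpow : ∀ n : ℕ, (s ^ n) x = (t ^ n) x := by
    intro n
    induction n with
    | zero => simp
    | succ n ih =>
      rw [pow_succ', pow_succ', Module.End.mul_apply, Module.End.mul_apply, ih]
      exact hst _ (pow_apply_mem t S hS n hx)
  induction a using Polynomial.induction_on' with
  | add p q hp hq => rw [map_add, map_add, LinearMap.add_apply, LinearMap.add_apply, hp, hq]
  | monomial n c =>
    rw [aeval_monomial, aeval_monomial, Module.End.mul_apply, Module.End.mul_apply, hpow]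

end basic

section semisimple
variable {F : Type*} [Field F] {V : Type*} [AddCommGroup V] [Module F V]

theorem ker_disjoint_range (s : End F V) (hs : s.IsSemisimple) :
    Disjoint (LinearMap.ker s) (LinearMap.range s) := by
  have hk : LinearMap.ker s ∈ Module.End.invtSubmodule s := by
    rw [Module.End.mem_invtSubmodule]
    intro x hx
    rw [Submodule.mem_comap, LinearMap.mem_ker, LinearMap.mem_ker.mp hx, map_zero]
  obtain ⟨q, hq, hc⟩ := Module.End.isSemisimple_iff.mp hs _ hk
  rw [Module.End.mem_invtSubmodule] at hq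
  have hr : LinearMap.range s ≤ q := by
    rintro _ ⟨v, rfl⟩
    have hv : v ∈ (LinearMap.ker s ⊔ q : Submodule F V) := by rw [hc.sup_eq_top]; trivial
    obtain ⟨k, hk', w, hw, rfl⟩ := Submodule.mem_sup.mp hv
    rw [map_add, LinearMap.mem_ker.mp hk', zero_add]
    exact hq hw
  exact hc.disjoint.mono_right hr

theorem ker_sup_range_eq_top [FiniteDimensional F V] (s : End F V) (hs : s.IsSemisimple) :
    LinearMap.ker s ⊔ LinearMap.range s = ⊤ := by
  apply Submodule.eq_top_of_disjoint _ _ _ (ker_disjoint_range s hs)
  rw [add_comm]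
  exact (LinearMap.finrank_range_add_finrank_ker s).ge

/-- every vector is a sum of a kernel vector and an image vector -/
theorem exists_ker_add_range [FiniteDimensional F V] (s : End F V) (hs : s.IsSemisimple) (v : V) :
    ∃ k w : V, s k = 0 ∧ v = k + s w := by
  have hv : v ∈ (LinearMap.ker s ⊔ LinearMap.range s : Submodule F V) := by
    rw [ker_sup_range_eq_top s hs]; trivial
  obtain ⟨k, hk, _, ⟨w, rfl⟩, rfl⟩ := Submodule.mem_sup.mp hv
  exact ⟨k, w, LinearMap.mem_ker.mp hk, rfl⟩

end semisimple

section charpoly
variable {F : Type*} [Field F] {V : Type*} [AddCommGroup V] [Module F V] [FiniteDimensional F V]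

open scoped TensorProduct

/-- an irreducible factor of the characteristic polynomial has a nontrivial kernel -/
theorem exists_ne_zero_of_dvd_charpoly (g : End F V) {f : F[X]} (hf : Irreducible f)
    (hd : f ∣ g.charpoly) : ∃ x : V, x ≠ 0 ∧ aeval g f x = 0 := by
  by_contra hcon
  push Not at hcon
  have hinj : Function.Injective (aeval g f) := by
    rw [← LinearMap.ker_eq_bot, Submodule.eq_bot_iff]
    intro x hx
    by_contra hx0
    exact hcon x hx0 (LinearMap.mem_ker.mp hx)
  obtain ⟨s, hs⟩ := LinearMap.exists_leftInverse_of_injective (aeval g f)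
    (LinearMap.ker_eq_bot.mpr hinj)
  have : Fact (Irreducible f) := ⟨hf⟩
  let E := AdjoinRoot f
  have hroot : (g.baseChange E).charpoly.IsRoot (AdjoinRoot.root f) := by
    rw [LinearMap.charpoly_baseChange, Polynomial.IsRoot, Polynomial.eval_map]
    obtain ⟨c, hc⟩ := hd
    rw [hc, Polynomial.eval₂_mul]
    have : Polynomial.eval₂ (algebraMap F E) (AdjoinRoot.root f) f = 0 := AdjoinRoot.eval₂_root f
    rw [this, zero_mul]
  rw [← Module.End.hasEigenvalue_iff_isRoot_charpoly] at hroot
  obtain ⟨v, hv⟩ := hroot.exists_hasEigenvector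
  have h1 : (aeval (g.baseChange E) (f.map (algebraMap F E))) v = 0 := by
    rw [Module.End.aeval_apply_of_hasEigenvector hv, Polynomial.eval_map]
    have : Polynomial.eval₂ (algebraMap F E) (AdjoinRoot.root f) f = 0 := AdjoinRoot.eval₂_root f
    rw [this, zero_smul]
  have h2 : aeval (g.baseChange E) (f.map (algebraMap F E)) = (aeval g f).baseChange E := by
    rw [Polynomial.aeval_map_algebraMap]
    have := Polynomial.aeval_algHom_apply (Module.End.baseChangeHom F E V) g f
    exact this
  rw [h2] at h1
  have h3 : (s.baseChange E) ((aeval g f).baseChange E v) = v := by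
    rw [← LinearMap.comp_apply, ← LinearMap.baseChange_comp, hs, LinearMap.baseChange_id]
    rfl
  rw [h1, map_zero] at h3
  exact hv.2 h3.symm

end charpoly

end Cfsg.Agent.Lib.Helper5.SemiConj
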