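import Mathlib
import Cfsg.Agent.Lib.Helper5.SemiConj.Poly

set_option autoImplicit false

/-!
# Semisimple isometries: the data, adjoints, orthogonal complements
-/

namespace Cfsg.Agent.Lib.Helper5.SemiConj

open Polynomial Module

universe u v

/-- A nondegenerate `ε`-hermitian `σ`-sesquilinear form with a semisimple isometry `g`
(with inverse `gi`). -/
structure IsoData {F : Type u} [Field F] (σ : F →+* F) (ε : F) (V : Type v)
    [AddCommGroup V] [Module F V] where
  B : V →ₛₗ[σ] V →ₗ[F] F
  g : V →ₗ[F] V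
  gi : V →ₗ[F] V
  sig2 : ∀ a, σ (σ a) = a
  eps : ε ≠ 0
  herm : ∀ x y, σ (B x y) = ε * B y x
  alt : σ = RingHom.id F → ∀ x, B x x = 0
  nondeg : ∀ v, (∀ w, B w v = 0) → v = 0
  isom : ∀ x y, B (g x) (g y) = B x y
  gi_g : ∀ x, gi (g x) = x
  g_gi : ∀ x, g (gi x) = x
  ss : Module.End.IsSemisimple g
  ssi : Module.End.IsSemisimple gi

namespace IsoData

variable {F : Type u} [Field F] {σ : F →+* F} {ε : F} {V : Type v} [AddCommGroup V] [Module F V]
variable (D : IsoData σ ε V)

theorem ortho_symm {x y : V} (h : D.B x y = 0) : D.B y x = 0 := by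
  have h1 := D.herm x y
  rw [h, map_zero] at h1
  exact (mul_eq_zero.mp h1.symm).resolve_left D.eps

theorem B_swap (x y : V) : D.B y x = ε⁻¹ * σ (D.B x y) := by
  rw [D.herm, ← mul_assoc, inv_mul_cancel₀ D.eps, one_mul]

theorem nondeg_left (v : V) (h : ∀ w, D.B v w = 0) : v = 0 :=
  D.nondeg v fun w => D.ortho_symm (h w)

include D in
theorem sig_comp : σ.comp σ = RingHom.id F := RingHom.ext D.sig2

/-- the same form with the inverse isometry -/
def op : IsoData σ ε V where
  B := D.B
  g := D.gi
  gi := D.g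
  sig2 := D.sig2
  eps := D.eps
  herm := D.herm
  alt := D.alt
  nondeg := D.nondeg
  isom := fun x y => by rw [← D.isom (D.gi x) (D.gi y), D.g_gi, D.g_gi]
  gi_g := D.g_gi
  g_gi := D.gi_g
  ss := D.ssi
  ssi := D.ss

@[simp] theorem op_B : D.op.B = D.B := rfl
@[simp] theorem op_g : D.op.g = D.gi := rfl
@[simp] theorem op_gi : D.op.gi = D.g := rfl

theorem isom_pow (n : ℕ) (x y : V) : D.B ((D.g ^ n) x) ((D.g ^ n) y) = D.B x y := by
  induction n with
  | zero => simp
  | succ n ih => rw [pow_succ', Module.End.mul_apply, Module.End.mul_apply, D.isom, ih]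

theorem gi_pow_g_pow (n : ℕ) (x : V) : (D.gi ^ n) ((D.g ^ n) x) = x := by
  induction n generalizing x with
  | zero => simp
  | succ n ih =>
    rw [pow_succ, pow_succ', Module.End.mul_apply, Module.End.mul_apply, D.gi_g, ih]

theorem B_pow (n : ℕ) (x y : V) : D.B ((D.g ^ n) x) y = D.B x ((D.gi ^ n) y) := by
  have h := D.isom_pow n x ((D.gi ^ n) y)
  rw [← h]
  congr 1
  exact (D.op.gi_pow_g_pow n y).symm

/-- the adjoint of a polynomial in `g` -/
theorem adj (a : F[X]) (x y : V) :
    D.B (aeval D.g a x) y = D.B x (aeval D.gi (a.map σ) y) := by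
  induction a using Polynomial.induction_on' with
  | add p q hp hq =>
    rw [map_add, LinearMap.add_apply, map_add, LinearMap.add_apply, Polynomial.map_add, map_add,
      LinearMap.add_apply, map_add, hp, hq]
  | monomial n c =>
    rw [Polynomial.map_monomial, aeval_monomial, aeval_monomial, Module.End.mul_apply,
      Module.End.mul_apply, Module.algebraMap_end_apply, Module.algebraMap_end_apply,
      LinearMap.map_smulₛₗ, LinearMap.smul_apply, map_smul, D.B_pow]

theorem adj' (a : F[X]) (x y : V) :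
    D.B x (aeval D.g a y) = D.B (aeval D.gi (a.map σ) x) y := by
  have h := D.op.adj (a.map σ) x y
  rw [Polynomial.map_map, D.sig_comp, Polynomial.map_id] at h
  exact h.symm

/-- the orthogonal complement (on the right) -/
def perp (P : Submodule F V) : Submodule F V where
  carrier := {v | ∀ p ∈ P, D.B p v = 0}
  add_mem' := by
    intro a b ha hb p hp
    rw [map_add, ha p hp, hb p hp, add_zero]
  zero_mem' := by
    intro p _
    rw [map_zero]
  smul_mem' := by
    intro c a ha p hp
    rw [map_smul, ha p hp, smul_zero]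

theorem mem_perp {P : Submodule F V} {v : V} : v ∈ D.perp P ↔ ∀ p ∈ P, D.B p v = 0 := Iff.rfl

/-- a subspace on which the form is nondegenerate -/
def Nondeg (P : Submodule F V) : Prop := ∀ v ∈ P, (∀ w ∈ P, D.B w v = 0) → v = 0

theorem disjoint_perp {P : Submodule F V} (hP : D.Nondeg P) : Disjoint P (D.perp P) := by
  rw [Submodule.disjoint_def]
  intro v hv hv'
  exact hP v hv fun w hw => hv' w hw

theorem sup_perp_eq_top [FiniteDimensional F V] {P : Submodule F V} (hP : D.Nondeg P) :
    P ⊔ D.perp P = ⊤ := by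
  let b := Module.finBasis F P
  let Ψ : V →ₗ[F] (Fin (finrank F P) → F) := LinearMap.pi fun i => D.B (b i : V)
  have hker : LinearMap.ker Ψ ≤ D.perp P := by
    intro v hv
    have hv' : ∀ i, D.B (b i : V) v = 0 := by
      intro i
      have := congrFun (LinearMap.mem_ker.mp hv) i
      simpa [Ψ] using this
    have h0 : (D.B.flip v).domRestrict P = 0 := by
      apply b.ext
      intro i
      simpa using hv' i
    intro p hp
    have := LinearMap.congr_fun h0 ⟨p, hp⟩
    simpa using this
  have h1 := LinearMap.finrank_range_add_finrank_ker Ψ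
  have h2 : finrank F (LinearMap.range Ψ) ≤ finrank F P := by
    have := Submodule.finrank_le (LinearMap.range Ψ)
    simpa using this
  have h3 : finrank F (LinearMap.ker Ψ) ≤ finrank F (D.perp P) := Submodule.finrank_mono hker
  apply Submodule.eq_top_of_disjoint _ _ _ (D.disjoint_perp hP)
  omega

theorem isCompl_perp [FiniteDimensional F V] {P : Submodule F V} (hP : D.Nondeg P) :
    IsCompl P (D.perp P) :=
  ⟨D.disjoint_perp hP, codisjoint_iff.mpr (D.sup_perp_eq_top hP)⟩

theorem nondeg_perp [FiniteDimensional F V] {P : Submodule F V} (hP : D.Nondeg P) :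
    D.Nondeg (D.perp P) := by
  intro v hv h
  apply D.nondeg
  intro z
  have hz : z ∈ (P ⊔ D.perp P : Submodule F V) := by rw [D.sup_perp_eq_top hP]; trivial
  obtain ⟨p, hp, w, hw, rfl⟩ := Submodule.mem_sup.mp hz
  rw [map_add, LinearMap.add_apply, hv p hp, h w hw, add_zero]

theorem perp_g_mem {P : Submodule F V} (hP : ∀ x ∈ P, D.gi x ∈ P) :
    ∀ v ∈ D.perp P, D.g v ∈ D.perp P := by
  intro v hv p hp
  rw [← D.g_gi p, D.isom]
  exact hv _ (hP p hp)

theorem gi_mem_of_g_mem [FiniteDimensional F V] {P : Submodule F V} (hP : ∀ x ∈ P, D.g x ∈ P) :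
    ∀ x ∈ P, D.gi x ∈ P := by
  intro x hx
  have hinj : Function.Injective (D.g.restrict hP) := by
    intro a b hab
    have h1 : D.g (a : V) = D.g (b : V) := congrArg Subtype.val hab
    have h2 := congrArg D.gi h1
    rw [D.gi_g, D.gi_g] at h2
    exact Subtype.ext h2
  obtain ⟨y, hy⟩ := (LinearMap.injective_iff_surjective.mp hinj) ⟨x, hx⟩
  have h1 : D.g (y : V) = x := congrArg Subtype.val hy
  rw [← h1, D.gi_g]
  exact y.2

/-- restriction of the data to an invariant nondegenerate subspace -/
def restrict (Q : Submodule F V) (hg : ∀ x ∈ Q, D.g x ∈ Q) (hgi : ∀ x ∈ Q, D.gi x ∈ Q)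
    (hnd : D.Nondeg Q) : IsoData σ ε Q where
  B := D.B.domRestrict₁₂ Q Q
  g := D.g.restrict hg
  gi := D.gi.restrict hgi
  sig2 := D.sig2
  eps := D.eps
  herm := fun x y => D.herm x y
  alt := fun h x => D.alt h x
  nondeg := fun v h => Subtype.ext (hnd v v.2 fun w hw => h ⟨w, hw⟩)
  isom := fun x y => D.isom x y
  gi_g := fun x => Subtype.ext (D.gi_g x)
  g_gi := fun x => Subtype.ext (D.g_gi x)
  ss := Module.End.IsSemisimple.restrict (p := Q) hg D.ss
  ssi := Module.End.IsSemisimple.restrict (p := Q) hgi D.ssi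

@[simp] theorem restrict_B (Q : Submodule F V) (hg hgi hnd) (x y : Q) :
    (D.restrict Q hg hgi hnd).B x y = D.B x y := rfl

@[simp] theorem restrict_g (Q : Submodule F V) (hg hgi hnd) (x : Q) :
    ((D.restrict Q hg hgi hnd).g x : V) = D.g x := rfl

end IsoData

end Cfsg.Agent.Lib.Helper5.SemiConj
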