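import Mathlib
import Cfsg.Agent.Lib.Helper5.SemiConj.Data

set_option autoImplicit false

/-!
# Semisimple isometries: Gram data determine cyclic pieces; gluing
-/

namespace Cfsg.Agent.Lib.Helper5.SemiConj

open Polynomial Module

universe u v

section evalAt
variable {F : Type u} [Field F] {V : Type v} [AddCommGroup V] [Module F V]

/-- evaluation of polynomials in `g` at a vector -/
noncomputable def evalAt (g : End F V) (x : V) : F[X] →ₗ[F] V :=
  (LinearMap.applyₗ x).comp (aeval g).toLinearMap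

@[simp] theorem evalAt_apply (g : End F V) (x : V) (a : F[X]) : evalAt g x a = aeval g a x := rfl

end evalAt

namespace IsoData

variable {F : Type u} [Field F] {σ : F →+* F} {ε : F} {V : Type v} [AddCommGroup V] [Module F V]
  {V' : Type v} [AddCommGroup V'] [Module F V']
variable (D : IsoData σ ε V) (D' : IsoData σ ε V')

/-- The Gram form on `F[g]x × F[g]y` is determined by the moments. -/
theorem pair_moment (x y : V) (x' y' : V')
    (h1 : ∀ k : ℕ, D.B x ((D.g ^ k) y) = D'.B x' ((D'.g ^ k) y'))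
    (h2 : ∀ k : ℕ, D.B y ((D.g ^ k) x) = D'.B y' ((D'.g ^ k) x')) (a b : F[X]) :
    D.B (aeval D.g a x) (aeval D.g b y) = D'.B (aeval D'.g a x') (aeval D'.g b y') := by
  have hmon : ∀ m n : ℕ, D.B ((D.g ^ m) x) ((D.g ^ n) y) = D'.B ((D'.g ^ m) x') ((D'.g ^ n) y') := by
    intro m n
    rcases le_total m n with h | h
    · obtain ⟨k, rfl⟩ := Nat.exists_eq_add_of_le h
      rw [pow_add, Module.End.mul_apply, pow_add, Module.End.mul_apply, D.isom_pow, D'.isom_pow, h1]
    · obtain ⟨k, rfl⟩ := Nat.exists_eq_add_of_le h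
      rw [pow_add, Module.End.mul_apply, pow_add, Module.End.mul_apply, D.isom_pow, D'.isom_pow,
        D.B_swap y, D'.B_swap y', h2]
  induction a using Polynomial.induction_on' with
  | add p q hp hq =>
    rw [map_add, LinearMap.add_apply, map_add, LinearMap.add_apply, hp, hq, map_add,
      LinearMap.add_apply, map_add, LinearMap.add_apply]
  | monomial m c =>
    rw [aeval_monomial, aeval_monomial, Module.End.mul_apply, Module.End.mul_apply,
      Module.algebraMap_end_apply, Module.algebraMap_end_apply, LinearMap.map_smulₛₗ,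
      LinearMap.map_smulₛₗ, LinearMap.smul_apply, LinearMap.smul_apply]
    congr 1
    induction b using Polynomial.induction_on' with
    | add p q hp hq =>
      rw [map_add, LinearMap.add_apply, map_add, hp, hq, map_add, LinearMap.add_apply, map_add]
    | monomial n c' =>
      rw [aeval_monomial, aeval_monomial, Module.End.mul_apply, Module.End.mul_apply,
        Module.algebraMap_end_apply, Module.algebraMap_end_apply, map_smul, map_smul, hmon]

/-- Two families with the same Gram form and nondegenerate spans span isometric subspaces. -/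
theorem exists_equiv_of_gram {M : Type*} [AddCommGroup M] [Module F M]
    (Θ : M →ₗ[F] V) (Θ' : M →ₗ[F] V')
    (hG : ∀ m m₁, D.B (Θ m) (Θ m₁) = D'.B (Θ' m) (Θ' m₁))
    (hnd : D.Nondeg (LinearMap.range Θ)) (hnd' : D'.Nondeg (LinearMap.range Θ')) :
    ∃ ψ : LinearMap.range Θ ≃ₗ[F] LinearMap.range Θ',
      ∀ m, (ψ ⟨Θ m, LinearMap.mem_range_self Θ m⟩ : V') = Θ' m := by
  have hker : LinearMap.ker Θ = LinearMap.ker Θ' := by
    ext m
    rw [LinearMap.mem_ker, LinearMap.mem_ker]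
    constructor
    · intro h
      apply hnd' _ (LinearMap.mem_range_self Θ' m)
      rintro _ ⟨m₁, rfl⟩
      rw [← hG, h, map_zero]
    · intro h
      apply hnd _ (LinearMap.mem_range_self Θ m)
      rintro _ ⟨m₁, rfl⟩
      rw [hG, h, map_zero]
  refine ⟨(Θ.quotKerEquivRange).symm ≪≫ₗ (Submodule.quotEquivOfEq _ _ hker) ≪≫ₗ
    Θ'.quotKerEquivRange, fun m => ?_⟩
  rw [LinearEquiv.trans_apply, LinearEquiv.trans_apply,
    LinearMap.quotKerEquivRange_symm_apply_image, Submodule.mkQ_apply,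
    Submodule.quotEquivOfEq_mk, LinearMap.quotKerEquivRange_apply_mk]

/-- invariant nondegenerate subspaces of two data which are isometric compatibly with the
isometries -/
def Matched (P : Submodule F V) (P' : Submodule F V') : Prop :=
  (∀ x ∈ P, D.g x ∈ P) ∧ (∀ x ∈ P', D'.g x ∈ P') ∧ D.Nondeg P ∧ D'.Nondeg P' ∧
  ∃ ψ : P ≃ₗ[F] P', (∀ p p₁ : P, D'.B (ψ p : V') (ψ p₁ : V') = D.B (p : V) (p₁ : V)) ∧
    ∀ (p : P) (hp : D.g (p : V) ∈ P), ((ψ ⟨D.g (p : V), hp⟩ : P') : V') = D'.g (ψ p : V')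

theorem matched_of_gram {M : Type*} [AddCommGroup M] [Module F M]
    (Θ : M →ₗ[F] V) (Θ' : M →ₗ[F] V') (T : M →ₗ[F] M)
    (hT : ∀ m, Θ (T m) = D.g (Θ m)) (hT' : ∀ m, Θ' (T m) = D'.g (Θ' m))
    (hG : ∀ m m₁, D.B (Θ m) (Θ m₁) = D'.B (Θ' m) (Θ' m₁))
    (hnd : D.Nondeg (LinearMap.range Θ)) (hnd' : D'.Nondeg (LinearMap.range Θ')) :
    D.Matched D' (LinearMap.range Θ) (LinearMap.range Θ') := by
  obtain ⟨ψ, hψ⟩ := D.exists_equiv_of_gram D' Θ Θ' hG hnd hnd'
  refine ⟨?_, ?_, hnd, hnd', ψ, ?_, ?_⟩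
  · rintro _ ⟨m, rfl⟩
    exact ⟨T m, hT m⟩
  · rintro _ ⟨m, rfl⟩
    exact ⟨T m, hT' m⟩
  · rintro ⟨_, m, rfl⟩ ⟨_, m₁, rfl⟩
    rw [hψ, hψ, hG]
  · rintro ⟨_, m, rfl⟩ hp
    have h1 : (⟨D.g (Θ m), hp⟩ : LinearMap.range Θ) = ⟨Θ (T m), LinearMap.mem_range_self Θ _⟩ :=
      Subtype.ext (hT m).symm
    rw [h1, hψ, hψ, hT']

end IsoData

section glue
variable {F : Type u} [Field F] {V : Type v} [AddCommGroup V] [Module F V]
  {V' : Type v} [AddCommGroup V'] [Module F V']

theorem exists_glue (P Q : Submodule F V) (P' Q' : Submodule F V') (hc : IsCompl P Q)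
    (hc' : IsCompl P' Q') (ψ : P ≃ₗ[F] P') (φ₂ : Q ≃ₗ[F] Q') :
    ∃ φ : V ≃ₗ[F] V', ∀ (p : P) (q : Q), φ ((p : V) + (q : V)) = (ψ p : V') + (φ₂ q : V') := by
  refine ⟨(Submodule.prodEquivOfIsCompl P Q hc).symm ≪≫ₗ (ψ.prodCongr φ₂) ≪≫ₗ
    Submodule.prodEquivOfIsCompl P' Q' hc', fun p q => ?_⟩
  have h1 : (Submodule.prodEquivOfIsCompl P Q hc).symm ((p : V) + (q : V)) = (p, q) := by
    rw [LinearEquiv.symm_apply_eq, Submodule.coe_prodEquivOfIsCompl']
  rw [LinearEquiv.trans_apply, LinearEquiv.trans_apply, h1, LinearEquiv.prodCongr_apply,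
    Submodule.coe_prodEquivOfIsCompl']

theorem exists_decomp {P Q : Submodule F V} (hc : IsCompl P Q) (v : V) :
    ∃ (p : P) (q : Q), v = (p : V) + (q : V) := by
  have hv : v ∈ (P ⊔ Q : Submodule F V) := by rw [hc.sup_eq_top]; trivial
  obtain ⟨p, hp, q, hq, rfl⟩ := Submodule.mem_sup.mp hv
  exact ⟨⟨p, hp⟩, ⟨q, hq⟩, rfl⟩

variable [FiniteDimensional F V]

theorem charpoly_eq_mul_of_isCompl (g : End F V) (P Q : Submodule F V) (hc : IsCompl P Q)
    (hP : ∀ x ∈ P, g x ∈ P) (hQ : ∀ x ∈ Q, g x ∈ Q) :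
    LinearMap.charpoly g = LinearMap.charpoly (g.restrict hP) * LinearMap.charpoly (g.restrict hQ) := by
  rw [← LinearMap.charpoly_prodMap,
    ← LinearEquiv.charpoly_conj (Submodule.prodEquivOfIsCompl P Q hc)]
  congr 1
  apply LinearMap.ext
  intro v
  obtain ⟨p, q, rfl⟩ := exists_decomp hc v
  have h1 : (Submodule.prodEquivOfIsCompl P Q hc).symm ((p : V) + (q : V)) = (p, q) := by
    rw [LinearEquiv.symm_apply_eq, Submodule.coe_prodEquivOfIsCompl']
  rw [LinearEquiv.conj_apply, LinearMap.comp_apply, LinearMap.comp_apply, LinearEquiv.coe_coe,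
    LinearEquiv.coe_coe, h1, LinearMap.prodMap_apply, Submodule.coe_prodEquivOfIsCompl', map_add]
  rfl

end glue

end Cfsg.Agent.Lib.Helper5.SemiConj
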