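import Mathlib
import Cfsg.Agent.Lib.Helper5.SemiConj.Field
import Cfsg.Agent.Lib.Helper5.SemiConj.Gram

set_option autoImplicit false

/-!
# Semisimple isometries: peeling off a nondegenerate invariant piece
-/

namespace Cfsg.Agent.Lib.Helper5.SemiConj

open Polynomial Module

universe u v

section misc
variable {F : Type u} [Field F] {V : Type v} [AddCommGroup V] [Module F V]

theorem evalAt_range_g_mem (g : End F V) (z : V) :
    ∀ w ∈ LinearMap.range (evalAt g z), g w ∈ LinearMap.range (evalAt g z) := by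
  rintro _ ⟨b, rfl⟩
  exact ⟨X * b, by rw [evalAt_apply, evalAt_apply, aeval_mul_apply, aeval_X]⟩

theorem self_mem_range_evalAt (g : End F V) (z : V) : z ∈ LinearMap.range (evalAt g z) :=
  ⟨1, by rw [evalAt_apply, aeval_one_apply]⟩

theorem pow_apply_eq_smul (g : End F V) (c : F) {z : V} (hz : g z = c • z) (k : ℕ) :
    (g ^ k) z = c ^ k • z := by
  induction k with
  | zero => simp
  | succ k ih => rw [pow_succ', Module.End.mul_apply, ih, map_smul, hz, smul_smul, pow_succ]

theorem apply_eq_of_dvd_sub_one (g : End F V) {f : F[X]} (h : f ∣ X - 1) {z : V}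
    (hz : aeval g f z = 0) : g z = (1 : F) • z := by
  have := aeval_apply_eq_zero_of_dvd g h hz
  rw [map_sub, LinearMap.sub_apply, aeval_X, aeval_one_apply, sub_eq_zero] at this
  rw [this, one_smul]

theorem apply_eq_of_dvd_add_one (g : End F V) {f : F[X]} (h : f ∣ X + 1) {z : V}
    (hz : aeval g f z = 0) : g z = (-1 : F) • z := by
  have := aeval_apply_eq_zero_of_dvd g h hz
  rw [map_add, LinearMap.add_apply, aeval_X, aeval_one_apply] at this
  rw [neg_one_smul]
  exact eq_neg_of_add_eq_zero_left this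

theorem irreducible_map_of_involutive {σ : F →+* F} (hσ : ∀ a, σ (σ a) = a) {f : F[X]}
    (hf : Irreducible f) : Irreducible (f.map σ) := by
  let e : F ≃+* F := RingEquiv.ofRingHom σ σ (RingHom.ext hσ) (RingHom.ext hσ)
  have h1 : f.map σ = Polynomial.mapEquiv e f := by
    rw [Polynomial.mapEquiv_apply]; rfl
  rw [h1]
  exact (MulEquiv.irreducible_iff (Polynomial.mapEquiv e).toMulEquiv).mpr hf

theorem exists_inv_X {f : F[X]} (hf : Irreducible f) (hX : ¬ f ∣ X) : ∃ r : F[X], f ∣ X * r - 1 := by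
  obtain ⟨u, v, huv⟩ := (EuclideanDomain.dvd_or_coprime f X hf).resolve_left hX
  refine ⟨v, ⟨-u, ?_⟩⟩
  linear_combination huv

end misc

namespace IsoData

variable {F : Type u} [Field F] {σ : F →+* F} {ε : F} {V : Type v} [AddCommGroup V] [Module F V]
  {V' : Type v} [AddCommGroup V'] [Module F V']
variable (D : IsoData σ ε V) (D' : IsoData σ ε V') {f r : F[X]}

theorem gi_eq (hr : f ∣ X * r - 1) {x : V} (hx : aeval D.g f x = 0) :
    D.gi x = aeval D.g r x := by
  have h := aeval_apply_eq_zero_of_dvd D.g hr hx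
  rw [map_sub, LinearMap.sub_apply, aeval_mul_apply, aeval_X, aeval_one_apply, sub_eq_zero] at h
  calc D.gi x = D.gi (D.g (aeval D.g r x)) := by rw [h]
    _ = aeval D.g r x := D.gi_g _

theorem ker_aeval_mem (a : F[X]) {x : V} (hx : aeval D.g f x = 0) :
    aeval D.g f (aeval D.g a x) = 0 := by
  rw [aeval_comm_apply, hx, map_zero]

theorem ker_gi_mem (hr : f ∣ X * r - 1) {x : V} (hx : aeval D.g f x = 0) :
    aeval D.g f (D.gi x) = 0 := by
  rw [D.gi_eq hr hx]; exact D.ker_aeval_mem r hx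

theorem aeval_gi_eq (hr : f ∣ X * r - 1) {x : V} (hx : aeval D.g f x = 0) (a : F[X]) :
    aeval D.gi a x = aeval D.g (a.comp r) x := by
  rw [Polynomial.aeval_comp]
  exact aeval_apply_eq_of_eqOn D.gi (aeval D.g r) (LinearMap.ker (aeval D.g f))
    (fun z hz => LinearMap.mem_ker.mpr (D.ker_aeval_mem r (LinearMap.mem_ker.mp hz)))
    (fun z hz => D.gi_eq hr (LinearMap.mem_ker.mp hz)) a (LinearMap.mem_ker.mpr hx)

theorem adjA (hr : f ∣ X * r - 1) {y : V} (hy : aeval D.g f y = 0) (a : F[X]) (x : V) :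
    D.B (aeval D.g a x) y = D.B x (aeval D.g ((a.map σ).comp r) y) := by
  rw [D.adj, D.aeval_gi_eq hr hy]

theorem ne_zero_not_dvd_X {x : V} (hx : aeval D.g f x = 0) (hne : x ≠ 0) : ¬ f ∣ X := by
  intro h
  have := aeval_apply_eq_zero_of_dvd D.g h hx
  rw [aeval_X] at this
  apply hne
  rw [← D.gi_g x, this, map_zero]

theorem sd_ker_le (hr : f ∣ X * r - 1) (hsd : f ∣ (f.map σ).comp r) {y : V}
    (hy : aeval D.g f y = 0) : aeval D.gi (f.map σ) y = 0 := by
  rw [D.aeval_gi_eq hr hy]
  exact aeval_apply_eq_zero_of_dvd D.g hsd hy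

/-- when `f` is not self-dual, the kernel of `f(g)` is totally isotropic -/
theorem isotropic_of_not_sd (hf : Irreducible f) (hr : f ∣ X * r - 1)
    (hsd : ¬ f ∣ (f.map σ).comp r) {x y : V} (hx : aeval D.g f x = 0)
    (hy : aeval D.g f y = 0) : D.B x y = 0 := by
  obtain ⟨v, hv⟩ := exists_aeval_apply_eq D.g hf hsd hy
  have hy1 : aeval D.g f (aeval D.g v y) = 0 := D.ker_aeval_mem v hy
  rw [← hv, ← D.adjA hr hy1 f x, hx, map_zero, LinearMap.zero_apply]

/-- when `f` is self-dual, the kernel of `f(g)` is nondegenerate -/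
theorem nondeg_ker_of_sd [FiniteDimensional F V] (hr : f ∣ X * r - 1)
    (hsd : f ∣ (f.map σ).comp r) : D.Nondeg (LinearMap.ker (aeval D.g f)) := by
  intro y hy h
  have hy' := LinearMap.mem_ker.mp hy
  apply D.nondeg
  intro z
  obtain ⟨k, w, hk, rfl⟩ := exists_ker_add_range (aeval D.g f) (D.ss.aeval f) z
  rw [map_add, LinearMap.add_apply, h k (LinearMap.mem_ker.mpr hk), zero_add, D.adjA hr hy' f w,
    aeval_apply_eq_zero_of_dvd D.g hsd hy', map_zero]

/-- in the self-dual case with nontrivial involution, some cyclic vector has a nonzero moment -/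
theorem exists_moment_ne_zero [FiniteDimensional F V] (hf : Irreducible f) (hr : f ∣ X * r - 1)
    (hsd : f ∣ (f.map σ).comp r) (hnt : σ ≠ RingHom.id F ∨ ¬ f ∣ X ^ 2 - 1) {x₀ : V}
    (hx₀ : aeval D.g f x₀ = 0) (hne : x₀ ≠ 0) :
    ∃ x : V, aeval D.g f x = 0 ∧ ∃ k : ℕ, D.B x ((D.g ^ k) x) ≠ 0 := by
  by_contra hcon
  push Not at hcon
  have hA := D.nondeg_ker_of_sd hr hsd
  have hpol : ∀ x y, aeval D.g f x = 0 → aeval D.g f y = 0 → ∀ k : ℕ,
      D.B x ((D.g ^ k) y) + D.B y ((D.g ^ k) x) = 0 := by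
    intro x y hx hy k
    have h1 := hcon (x + y) (by rw [map_add, hx, hy, add_zero]) k
    have e : D.B (x + y) ((D.g ^ k) (x + y)) = D.B x ((D.g ^ k) x) + D.B x ((D.g ^ k) y) +
        (D.B y ((D.g ^ k) x) + D.B y ((D.g ^ k) y)) := by
      simp only [map_add, LinearMap.add_apply]
      try ring
    rw [e, hcon x hx k, hcon y hy k] at h1
    linear_combination h1
  rcases hnt with h | h
  · have hc : ∃ c, σ c ≠ c := by
      by_contra hc
      push Not at hc
      exact h (RingHom.ext hc)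
    obtain ⟨c, hc⟩ := hc
    have hzero : ∀ x y, aeval D.g f x = 0 → aeval D.g f y = 0 → D.B x y = 0 := by
      intro x y hx hy
      have h1 := hpol (c • x) y (by rw [map_smul, hx, smul_zero]) hy 0
      have h2 := hpol x y hx hy 0
      simp only [pow_zero, Module.End.one_apply] at h1 h2
      rw [LinearMap.map_smulₛₗ, LinearMap.smul_apply, map_smul, smul_eq_mul, smul_eq_mul] at h1
      have h3 : (σ c - c) * D.B x y = 0 := by linear_combination h1 - c * h2
      rcases mul_eq_zero.mp h3 with h4 | h4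
      · exact absurd (sub_eq_zero.mp h4) hc
      · exact h4
    exact hne (hA x₀ (LinearMap.mem_ker.mpr hx₀) fun w hw =>
      hzero w x₀ (LinearMap.mem_ker.mp hw) hx₀)
  · have hgg : ∀ y, aeval D.g f y = 0 → D.g y = D.gi y := by
      intro y hy
      have hgy : aeval D.g f (D.g y) = 0 := by
        have := D.ker_aeval_mem X hy
        rwa [aeval_X] at this
      have hgiy : aeval D.g f (D.gi y) = 0 := D.ker_gi_mem hr hy
      have hmem : D.g y - D.gi y ∈ LinearMap.ker (aeval D.g f) := by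
        rw [LinearMap.mem_ker, map_sub, hgy, hgiy, sub_zero]
      have := hA _ hmem ?_
      · exact sub_eq_zero.mp this
      intro x hx
      have hx' := LinearMap.mem_ker.mp hx
      have hgx : aeval D.g f (D.g x) = 0 := by
        have := D.ker_aeval_mem X hx'
        rwa [aeval_X] at this
      have h1 := hpol x y hx' hy 1
      have h2 := hpol y (D.g x) hy hgx 0
      simp only [pow_zero, Module.End.one_apply, pow_one] at h1 h2
      have h3 : D.B (D.g x) y = D.B x (D.gi y) := by
        have := D.isom x (D.gi y)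
        rwa [D.g_gi] at this
      rw [map_sub]
      linear_combination h1 - h2 + h3
    have h1 := hgg x₀ hx₀
    have h2 : aeval D.g (X ^ 2 - 1 : F[X]) x₀ = 0 := by
      rw [map_sub, LinearMap.sub_apply, aeval_X_pow_apply, aeval_one_apply, pow_two,
        Module.End.mul_apply, h1, D.g_gi, sub_self]
    exact hne (eq_zero_of_aeval_apply_eq_zero D.g hf h hx₀ h2)

/-- a cyclic submodule with a nonzero moment is nondegenerate -/
theorem nondeg_cyclic [FiniteDimensional F V] (hf : Irreducible f) {x : V}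
    (hx : aeval D.g f x = 0) {k : ℕ} (hk : D.B x ((D.g ^ k) x) ≠ 0) :
    D.Nondeg (LinearMap.range (evalAt D.g x)) := by
  intro v hv h
  by_contra hv0
  obtain ⟨a, rfl⟩ := hv
  have hPgi := D.gi_mem_of_g_mem (evalAt_range_g_mem D.g x)
  have hS := D.perp_g_mem hPgi
  have hxS : x ∈ D.perp (LinearMap.range (evalAt D.g x)) :=
    mem_of_aeval_apply_mem D.g hf _ hS hx a h hv0
  have := pow_apply_mem D.g _ hS k hxS
  exact hk (this x (self_mem_range_evalAt D.g x))

/-- two isotropic cyclic submodules in duality span a nondegenerate subspace -/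
theorem nondeg_pair [FiniteDimensional F V] {f₂ r₂ : F[X]} (hf : Irreducible f)
    (hf₂ : Irreducible f₂) (hr₂ : f₂ ∣ X * r₂ - 1) {x y : V} (hx : aeval D.g f x = 0)
    (hy : aeval D.gi f₂ y = 0)
    (hiso : ∀ a a₁ : F[X], D.B (aeval D.g a₁ x) (aeval D.g a x) = 0) (hxy : D.B x y ≠ 0) :
    D.Nondeg (LinearMap.range ((evalAt D.g x).coprod (evalAt D.g y))) := by
  intro v hv h
  obtain ⟨⟨a, b⟩, rfl⟩ := hv
  have hxP : ∀ a₁ : F[X], aeval D.g a₁ x ∈
      LinearMap.range ((evalAt D.g x).coprod (evalAt D.g y)) := fun a₁ =>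
    ⟨(a₁, 0), by simp⟩
  have hyP : ∀ b₁ : F[X], aeval D.g b₁ y ∈
      LinearMap.range ((evalAt D.g x).coprod (evalAt D.g y)) := fun b₁ =>
    ⟨(0, b₁), by simp⟩
  simp only [LinearMap.coprod_apply, evalAt_apply] at h ⊢
  have hby : aeval D.g b y = 0 := by
    by_contra hne
    have hSgi : ∀ v ∈ D.perp (LinearMap.range (evalAt D.g x)),
        D.gi v ∈ D.perp (LinearMap.range (evalAt D.g x)) :=
      D.op.perp_g_mem (P := LinearMap.range (evalAt D.g x)) (evalAt_range_g_mem D.g x)
    have hmem : aeval D.g b y ∈ D.perp (LinearMap.range (evalAt D.g x)) := by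
      rintro _ ⟨a₁, rfl⟩
      have := h _ (hxP a₁)
      rw [map_add, hiso, zero_add] at this
      exact this
    have e : aeval D.g b y = aeval D.gi (b.comp r₂) y := D.op.aeval_gi_eq hr₂ hy b
    rw [e] at hmem hne
    have hyS : y ∈ D.perp (LinearMap.range (evalAt D.g x)) :=
      mem_of_aeval_apply_mem D.gi hf₂ _ hSgi hy _ hmem hne
    exact hxy (hyS x (self_mem_range_evalAt D.g x))
  rw [hby, add_zero] at h ⊢
  by_contra hne
  have hPgi := D.gi_mem_of_g_mem (evalAt_range_g_mem D.g y)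
  have hS := D.perp_g_mem hPgi
  have hmem : aeval D.g a x ∈ D.perp (LinearMap.range (evalAt D.g y)) := by
    rintro _ ⟨b₁, rfl⟩
    exact h _ (hyP b₁)
  have hxS : x ∈ D.perp (LinearMap.range (evalAt D.g y)) :=
    mem_of_aeval_apply_mem D.g hf _ hS hx a hmem hne
  exact hxy (D.ortho_symm (hxS y (self_mem_range_evalAt D.g y)))

end IsoData

end Cfsg.Agent.Lib.Helper5.SemiConj
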