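import Mathlib
import Cfsg.Agent.Lib.Helper5.SemiConj.Types

set_option autoImplicit false

/-!
# Semisimple isometries: matching pieces of two data
-/

namespace Cfsg.Agent.Lib.Helper5.SemiConj

open Polynomial Module

universe u v

namespace IsoData

variable {F : Type u} [Field F] {σ : F →+* F} {ε : F} {V : Type v} [AddCommGroup V] [Module F V]
  {V' : Type v} [AddCommGroup V'] [Module F V']
variable (D : IsoData σ ε V) (D' : IsoData σ ε V') {f r : F[X]}

/-- the self-dual case with nontrivial involution -/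
theorem cyclic_matched [Finite F] [FiniteDimensional F V] [FiniteDimensional F V']
    (hf : Irreducible f) (hr : f ∣ X * r - 1) (hsd : f ∣ (f.map σ).comp r)
    (hnt : σ ≠ RingHom.id F ∨ ¬ f ∣ X ^ 2 - 1)
    {x₀ : V} (hx₀ : aeval D.g f x₀ = 0) (hne₀ : x₀ ≠ 0)
    {x₀' : V'} (hx₀' : aeval D'.g f x₀' = 0) (hne₀' : x₀' ≠ 0) :
    ∃ (P : Submodule F V) (P' : Submodule F V'), P ≠ ⊥ ∧ D.Matched D' P P' := by
  obtain ⟨x, hx, k, hk⟩ := D.exists_moment_ne_zero hf hr hsd hnt hx₀ hne₀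
  obtain ⟨x', hx', k', hk'⟩ := D'.exists_moment_ne_zero hf hr hsd hnt hx₀' hne₀'
  let lam : F[X] →ₗ[F] F := (D.B x).comp (evalAt D.g x)
  let lam' : F[X] →ₗ[F] F := (D'.B x').comp (evalAt D'.g x')
  have hlam : ∀ a : F[X], lam a = D.B x (aeval D.g a x) := fun a => rfl
  have hlam' : ∀ a : F[X], lam' a = D'.B x' (aeval D'.g a x') := fun a => rfl
  have hl : ∀ a, lam (f * a) = 0 := fun a => by
    rw [hlam, mul_comm, aeval_mul_apply, hx, map_zero, map_zero]
  have hl' : ∀ a, lam' (f * a) = 0 := fun a => by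
    rw [hlam', mul_comm, aeval_mul_apply, hx', map_zero, map_zero]
  have hne : lam ≠ 0 := fun h0 => hk (by
    have := LinearMap.congr_fun h0 (X ^ k)
    rwa [hlam, aeval_X_pow_apply] at this)
  have hne' : lam' ≠ 0 := fun h0 => hk' (by
    have := LinearMap.congr_fun h0 (X ^ k')
    rwa [hlam', aeval_X_pow_apply] at this)
  have hh : ∀ a, σ (lam a) = ε * lam ((a.map σ).comp r) := fun a => by
    rw [hlam, hlam, D.herm, D.adjA hr hx]
  have hh' : ∀ a, σ (lam' a) = ε * lam' ((a.map σ).comp r) := fun a => by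
    rw [hlam', hlam', D'.herm, D'.adjA hr hx']
  obtain ⟨u, hu⟩ := exists_norm_adjust D.sig2 hf hr hsd hnt ε D.eps lam lam' hl hl' hne hne' hh hh'
  obtain ⟨x'', hx''def⟩ : ∃ x'', x'' = aeval D'.g u x' := ⟨_, rfl⟩
  have hx'' : aeval D'.g f x'' = 0 := by rw [hx''def]; exact D'.ker_aeval_mem u hx'
  have hmom : ∀ a : F[X], D.B x (aeval D.g a x) = D'.B x'' (aeval D'.g a x'') := by
    intro a
    have h1 := hu a
    rw [hlam, hlam'] at h1
    rw [h1]
    have h2 : aeval D'.g f (aeval D'.g a x'') = 0 := D'.ker_aeval_mem a hx''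
    have h3 := D'.adjA hr h2 u x'
    rw [← hx''def] at h3
    rw [h3, hx''def, ← aeval_mul_apply, ← aeval_mul_apply]
    have e : (u.map σ).comp r * a * u = (u.map σ).comp r * u * a := by ring
    rw [e]
  have hmk : ∀ k : ℕ, D.B x ((D.g ^ k) x) = D'.B x'' ((D'.g ^ k) x'') := by
    intro k
    have := hmom (X ^ k)
    rwa [aeval_X_pow_apply, aeval_X_pow_apply] at this
  have hk'' : D'.B x'' ((D'.g ^ k) x'') ≠ 0 := by rw [← hmk]; exact hk
  have hG : ∀ m m₁ : F[X], D.B (evalAt D.g x m) (evalAt D.g x m₁) =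
      D'.B (evalAt D'.g x'' m) (evalAt D'.g x'' m₁) := fun m m₁ =>
    D.pair_moment D' x x x'' x'' hmk hmk m m₁
  have hM := D.matched_of_gram D' (evalAt D.g x) (evalAt D'.g x'') (LinearMap.mulLeft F (X : F[X]))
    (fun m => by rw [LinearMap.mulLeft_apply, evalAt_apply, evalAt_apply, aeval_mul_apply, aeval_X])
    (fun m => by rw [LinearMap.mulLeft_apply, evalAt_apply, evalAt_apply, aeval_mul_apply, aeval_X])
    hG (D.nondeg_cyclic hf hx hk) (D'.nondeg_cyclic hf hx'' hk'')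
  refine ⟨_, _, ?_, hM⟩
  intro hbot
  have h1 : x ∈ LinearMap.range (evalAt D.g x) := self_mem_range_evalAt D.g x
  rw [hbot, Submodule.mem_bot] at h1
  apply hk
  rw [h1, map_zero, LinearMap.zero_apply]

/-- the cases where the piece is a sum of two isotropic cyclic submodules in duality -/
theorem pair_matched [FiniteDimensional F V] [FiniteDimensional F V']
    (hf : Irreducible f) (hr : f ∣ X * r - 1)
    {x y : V} (hx : aeval D.g f x = 0) (hy : aeval D.gi (f.map σ) y = 0) (hxy : D.B x y ≠ 0)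
    {x' y' : V'} (hx' : aeval D'.g f x' = 0) (hy' : aeval D'.gi (f.map σ) y' = 0)
    (hxy' : D'.B x' y' ≠ 0)
    (hA : ∀ z, aeval D.g f z = 0 → ∀ k : ℕ, D.B z ((D.g ^ k) z) = 0)
    (hAt : ∀ z, aeval D.gi (f.map σ) z = 0 → ∀ k : ℕ, D.B z ((D.g ^ k) z) = 0)
    (hA' : ∀ z, aeval D'.g f z = 0 → ∀ k : ℕ, D'.B z ((D'.g ^ k) z) = 0)
    (hAt' : ∀ z, aeval D'.gi (f.map σ) z = 0 → ∀ k : ℕ, D'.B z ((D'.g ^ k) z) = 0) :
    ∃ (P : Submodule F V) (P' : Submodule F V'), P ≠ ⊥ ∧ D.Matched D' P P' := by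
  have hf₂ : Irreducible (f.map σ) := irreducible_map_of_involutive D.sig2 hf
  have hr₂ : f.map σ ∣ X * r.map σ - 1 := by
    have := Polynomial.map_dvd σ hr
    rwa [Polynomial.map_sub, Polynomial.map_mul, Polynomial.map_X, Polynomial.map_one] at this
  let mu : F[X] →ₗ[F] F := (D.B x).comp (evalAt D.gi y)
  let mu' : F[X] →ₗ[F] F := (D'.B x').comp (evalAt D'.gi y')
  have hmu : ∀ a : F[X], mu a = D.B x (aeval D.gi a y) := fun a => rfl
  have hmu' : ∀ a : F[X], mu' a = D'.B x' (aeval D'.gi a y') := fun a => rfl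
  have hl : ∀ a, mu (f.map σ * a) = 0 := fun a => by
    rw [hmu, mul_comm, aeval_mul_apply, hy, map_zero, map_zero]
  have hl' : ∀ a, mu' (f.map σ * a) = 0 := fun a => by
    rw [hmu', mul_comm, aeval_mul_apply, hy', map_zero, map_zero]
  have hne' : mu' ≠ 0 := fun h0 => hxy' (by
    have := LinearMap.congr_fun h0 1
    rwa [hmu', aeval_one_apply] at this)
  obtain ⟨c, hc⟩ := exists_mul_functional (f.map σ) hf₂ mu mu' hl hl' hne'
  obtain ⟨y'', hy''def⟩ : ∃ y'', y'' = aeval D'.gi c y' := ⟨_, rfl⟩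
  have hy'' : aeval D'.gi (f.map σ) y'' = 0 := by
    rw [hy''def]; exact D'.op.ker_aeval_mem c hy'
  have key : ∀ b : F[X], D.B x (aeval D.gi b y) = D'.B x' (aeval D'.gi b y'') := by
    intro b
    have h1 := hc b
    rw [hmu, hmu'] at h1
    rw [h1, hy''def, ← aeval_mul_apply, mul_comm]
  have hxy'' : D'.B x' y'' ≠ 0 := by
    have := key 1
    rw [aeval_one_apply, aeval_one_apply] at this
    rw [← this]; exact hxy
  -- moments
  have hxx : ∀ k : ℕ, D.B x ((D.g ^ k) x) = D'.B x' ((D'.g ^ k) x') := fun k => by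
    rw [hA x hx k, hA' x' hx' k]
  have hyy : ∀ k : ℕ, D.B y ((D.g ^ k) y) = D'.B y'' ((D'.g ^ k) y'') := fun k => by
    rw [hAt y hy k, hAt' y'' hy'' k]
  have hgk : ∀ k : ℕ, (D.g ^ k) y = aeval D.gi ((X ^ k : F[X]).comp (r.map σ)) y := by
    intro k
    rw [← aeval_X_pow_apply]
    exact D.op.aeval_gi_eq hr₂ hy (X ^ k)
  have hgk' : ∀ k : ℕ, (D'.g ^ k) y'' = aeval D'.gi ((X ^ k : F[X]).comp (r.map σ)) y'' := by
    intro k
    rw [← aeval_X_pow_apply]
    exact D'.op.aeval_gi_eq hr₂ hy'' (X ^ k)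
  have hxyk : ∀ k : ℕ, D.B x ((D.g ^ k) y) = D'.B x' ((D'.g ^ k) y'') := fun k => by
    rw [hgk, hgk', key]
  have hyxk : ∀ k : ℕ, D.B y ((D.g ^ k) x) = D'.B y'' ((D'.g ^ k) x') := by
    intro k
    have h1 : D.B ((D.gi ^ k) y) x = D.B y ((D.g ^ k) x) := D.op.B_pow k y x
    have h2 : D'.B ((D'.gi ^ k) y'') x' = D'.B y'' ((D'.g ^ k) x') := D'.op.B_pow k y'' x'
    rw [← h1, ← h2, D.B_swap x, D'.B_swap x', ← aeval_X_pow_apply, ← aeval_X_pow_apply, key]
  have hiso : ∀ a a₁ : F[X], D.B (aeval D.g a₁ x) (aeval D.g a x) = 0 := by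
    intro a a₁
    have := D.pair_moment D x x 0 0 (fun k => by rw [hA x hx k]; simp)
      (fun k => by rw [hA x hx k]; simp) a₁ a
    rw [this]; simp
  have hiso' : ∀ a a₁ : F[X], D'.B (aeval D'.g a₁ x') (aeval D'.g a x') = 0 := by
    intro a a₁
    have := D'.pair_moment D' x' x' 0 0 (fun k => by rw [hA' x' hx' k]; simp)
      (fun k => by rw [hA' x' hx' k]; simp) a₁ a
    rw [this]; simp
  have hG : ∀ m m₁ : F[X] × F[X],
      D.B (((evalAt D.g x).coprod (evalAt D.g y)) m) (((evalAt D.g x).coprod (evalAt D.g y)) m₁) =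
      D'.B (((evalAt D'.g x').coprod (evalAt D'.g y'')) m)
        (((evalAt D'.g x').coprod (evalAt D'.g y'')) m₁) := by
    rintro ⟨a, b⟩ ⟨a₁, b₁⟩
    simp only [LinearMap.coprod_apply, evalAt_apply, map_add, LinearMap.add_apply]
    rw [D.pair_moment D' x x x' x' hxx hxx, D.pair_moment D' x y x' y'' hxyk hyxk,
      D.pair_moment D' y x y'' x' hyxk hxyk, D.pair_moment D' y y y'' y'' hyy hyy]
  have hM := D.matched_of_gram D' ((evalAt D.g x).coprod (evalAt D.g y))
    ((evalAt D'.g x').coprod (evalAt D'.g y''))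
    ((LinearMap.mulLeft F (X : F[X])).prodMap (LinearMap.mulLeft F (X : F[X])))
    (fun m => by
      simp only [LinearMap.coprod_apply, LinearMap.prodMap_apply, LinearMap.mulLeft_apply,
        evalAt_apply, aeval_mul_apply, aeval_X, map_add])
    (fun m => by
      simp only [LinearMap.coprod_apply, LinearMap.prodMap_apply, LinearMap.mulLeft_apply,
        evalAt_apply, aeval_mul_apply, aeval_X, map_add])
    hG (D.nondeg_pair hf hf₂ hr₂ hx hy hiso hxy) (D'.nondeg_pair hf hf₂ hr₂ hx' hy'' hiso' hxy'')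
  refine ⟨_, _, ?_, hM⟩
  intro hbot
  have h1 : x ∈ LinearMap.range ((evalAt D.g x).coprod (evalAt D.g y)) := ⟨(1, 0), by simp⟩
  rw [hbot, Submodule.mem_bot] at h1
  apply hxy
  rw [h1, map_zero, LinearMap.zero_apply]

end IsoData

end Cfsg.Agent.Lib.Helper5.SemiConj
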