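import Mathlib
import Cfsg.Agent.Lib.Helper5.SemiConj.Peel

set_option autoImplicit false

/-!
# Semisimple isometries with the same characteristic polynomial are conjugate by an isometry
-/

namespace Cfsg.Agent.Lib.Helper5.SemiConj

open Polynomial Module

universe u v

namespace IsoData

variable {F : Type u} [Field F] {σ : F →+* F} {ε : F} {V : Type v} [AddCommGroup V] [Module F V]
  {V' : Type v} [AddCommGroup V'] [Module F V']
variable (D : IsoData σ ε V) (D' : IsoData σ ε V')

/-- the peeling step -/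
theorem exists_matched [Finite F] [FiniteDimensional F V] [FiniteDimensional F V']
    (hV : 0 < finrank F V) (hchar : LinearMap.charpoly D.g = LinearMap.charpoly D'.g) :
    ∃ (P : Submodule F V) (P' : Submodule F V'), P ≠ ⊥ ∧ D.Matched D' P P' := by
  classical
  have hdeg : (LinearMap.charpoly D.g).natDegree = finrank F V := LinearMap.charpoly_natDegree D.g
  have hnu : ¬ IsUnit (LinearMap.charpoly D.g) := fun h => by
    have := Polynomial.natDegree_eq_zero_of_isUnit h
    omega
  have hn0 : LinearMap.charpoly D.g ≠ 0 := (LinearMap.charpoly_monic D.g).ne_zero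
  obtain ⟨f, hf, hfd⟩ := WfDvdMonoid.exists_irreducible_factor hnu hn0
  obtain ⟨x, hxne, hx⟩ := exists_ne_zero_of_dvd_charpoly D.g hf hfd
  obtain ⟨x', hxne', hx'⟩ := exists_ne_zero_of_dvd_charpoly D'.g hf (hchar ▸ hfd)
  obtain ⟨r, hr⟩ := exists_inv_X hf (D.ne_zero_not_dvd_X hx hxne)
  have hf₂ : Irreducible (f.map σ) := irreducible_map_of_involutive D.sig2 hf
  have hr₂ : f.map σ ∣ X * r.map σ - 1 := by
    have := Polynomial.map_dvd σ hr
    rwa [Polynomial.map_sub, Polynomial.map_mul, Polynomial.map_X, Polynomial.map_one] at this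
  by_cases hsd : f ∣ (f.map σ).comp r
  · by_cases hb : σ = RingHom.id F ∧ f ∣ X ^ 2 - 1
    · -- hyperbolic planes in the ±1-eigenspace of a symplectic isometry
      obtain ⟨hσ, h2⟩ := hb
      have hpm : f ∣ X - 1 ∨ f ∣ X + 1 := by
        have e : (X ^ 2 - 1 : F[X]) = (X - 1) * (X + 1) := by ring
        rw [e] at h2
        exact hf.prime.dvd_or_dvd h2
      have hfid : f.map σ = f := by rw [hσ, Polynomial.map_id]
      -- the scalar by which `g` acts
      obtain ⟨c, hc, hci⟩ : ∃ c : F,
          (∀ (W : Type v) [AddCommGroup W] [Module F W] (t : End F W) (z : W),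
            aeval t f z = 0 → t z = c • z) ∧ c * c = 1 := by
        rcases hpm with h | h
        · exact ⟨1, fun W _ _ t z hz => apply_eq_of_dvd_sub_one t h hz, by ring⟩
        · exact ⟨-1, fun W _ _ t z hz => apply_eq_of_dvd_add_one t h hz, by ring⟩
      have hiso : ∀ {W : Type v} [AddCommGroup W] [Module F W] (E : IsoData σ ε W) (z : W),
          E.g z = c • z → ∀ k : ℕ, E.B z ((E.g ^ k) z) = 0 := by
        intro W _ _ E z hz k
        rw [pow_apply_eq_smul E.g c hz k, map_smul, E.alt hσ z, smul_zero]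
      have hgi : ∀ {W : Type v} [AddCommGroup W] [Module F W] (E : IsoData σ ε W) (z : W),
          E.gi z = c • z → E.g z = c • z := by
        intro W _ _ E z hz
        have h1 : z = c • E.g z := by
          have := congrArg E.g hz
          rwa [E.g_gi, map_smul] at this
        calc E.g z = (c * c) • E.g z := by rw [hci, one_smul]
          _ = c • (c • E.g z) := by rw [mul_smul]
          _ = c • z := by rw [← h1]
      have hA : ∀ z, aeval D.g f z = 0 → ∀ k : ℕ, D.B z ((D.g ^ k) z) = 0 :=
        fun z hz => hiso D z (hc V D.g z hz)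
      have hAt : ∀ z, aeval D.gi (f.map σ) z = 0 → ∀ k : ℕ, D.B z ((D.g ^ k) z) = 0 :=
        fun z hz => hiso D z (hgi D z (hc V D.gi z (hfid ▸ hz)))
      have hA' : ∀ z, aeval D'.g f z = 0 → ∀ k : ℕ, D'.B z ((D'.g ^ k) z) = 0 :=
        fun z hz => hiso D' z (hc V' D'.g z hz)
      have hAt' : ∀ z, aeval D'.gi (f.map σ) z = 0 → ∀ k : ℕ, D'.B z ((D'.g ^ k) z) = 0 :=
        fun z hz => hiso D' z (hgi D' z (hc V' D'.gi z (hfid ▸ hz)))
      have hy : ∃ y, aeval D.g f y = 0 ∧ D.B x y ≠ 0 := by
        by_contra hcon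
        push Not at hcon
        exact hxne (D.nondeg_ker_of_sd hr hsd x (LinearMap.mem_ker.mpr hx) fun w hw =>
          D.ortho_symm (hcon w (LinearMap.mem_ker.mp hw)))
      have hy' : ∃ y, aeval D'.g f y = 0 ∧ D'.B x' y ≠ 0 := by
        by_contra hcon
        push Not at hcon
        exact hxne' (D'.nondeg_ker_of_sd hr hsd x' (LinearMap.mem_ker.mpr hx') fun w hw =>
          D'.ortho_symm (hcon w (LinearMap.mem_ker.mp hw)))
      obtain ⟨y, hyA, hxy⟩ := hy
      obtain ⟨y', hyA', hxy'⟩ := hy'
      exact D.pair_matched D' hf hr hx (D.sd_ker_le hr hsd hyA) hxy hx'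
        (D'.sd_ker_le hr hsd hyA') hxy' hA hAt hA' hAt'
    · have hnt : σ ≠ RingHom.id F ∨ ¬ f ∣ X ^ 2 - 1 := by
        by_cases h : σ = RingHom.id F
        · exact Or.inr fun h2 => hb ⟨h, h2⟩
        · exact Or.inl h
      exact D.cyclic_matched D' hf hr hsd hnt hx hxne hx' hxne'
  · -- the non-self-dual case
    have hsd₂ : ¬ f.map σ ∣ ((f.map σ).map σ).comp (r.map σ) := by
      intro h
      apply hsd
      have := Polynomial.map_dvd σ h
      rwa [Polynomial.map_comp, Polynomial.map_map, Polynomial.map_map, Polynomial.map_map,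
        D.sig_comp, Polynomial.map_id, Polynomial.map_id] at this
    have hA : ∀ {W : Type v} [AddCommGroup W] [Module F W] (E : IsoData σ ε W) (z : W),
        aeval E.g f z = 0 → ∀ k : ℕ, E.B z ((E.g ^ k) z) = 0 := by
      intro W _ _ E z hz k
      apply E.isotropic_of_not_sd hf hr hsd hz
      rw [← aeval_X_pow_apply]
      exact E.ker_aeval_mem _ hz
    have hAt : ∀ {W : Type v} [AddCommGroup W] [Module F W] (E : IsoData σ ε W) (z : W),
        aeval E.gi (f.map σ) z = 0 → ∀ k : ℕ, E.B z ((E.g ^ k) z) = 0 := by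
      intro W _ _ E z hz k
      apply E.op.isotropic_of_not_sd hf₂ hr₂ hsd₂ hz
      have h1 : (E.g ^ k) z = aeval E.gi ((X ^ k : F[X]).comp (r.map σ)) z := by
        rw [← aeval_X_pow_apply]
        exact E.op.aeval_gi_eq hr₂ hz (X ^ k)
      rw [h1]
      exact E.op.ker_aeval_mem _ hz
    have hy : ∀ {W : Type v} [AddCommGroup W] [Module F W] [FiniteDimensional F W]
        (E : IsoData σ ε W) (z : W), aeval E.g f z = 0 → z ≠ 0 →
        ∃ y, aeval E.gi (f.map σ) y = 0 ∧ E.B z y ≠ 0 := by
      intro W _ _ _ E z hz hzne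
      have hv : ∃ v, E.B z v ≠ 0 := by
        by_contra hcon
        push Not at hcon
        exact hzne (E.nondeg_left z hcon)
      obtain ⟨v, hv⟩ := hv
      obtain ⟨k, w, hk, rfl⟩ := exists_ker_add_range (aeval E.gi (f.map σ)) (E.ssi.aeval _) v
      refine ⟨k, hk, ?_⟩
      rw [map_add, ← E.adj f z w, hz, map_zero, LinearMap.zero_apply, add_zero] at hv
      exact hv
    obtain ⟨y, hyA, hxy⟩ := hy D x hx hxne
    obtain ⟨y', hyA', hxy'⟩ := hy D' x' hx' hxne'
    exact D.pair_matched D' hf hr hx hyA hxy hx' hyA' hxy' (hA D) (hAt D) (hA D') (hAt D')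

end IsoData

/-- **Main theorem.** Two semisimple isometries (of possibly different spaces) with the same
characteristic polynomial are conjugate by an isometry. -/
theorem exists_isometry_aux {F : Type u} [Field F] [Finite F] {σ : F →+* F} {ε : F} :
    ∀ n : ℕ, ∀ (V V' : Type v) [AddCommGroup V] [Module F V] [AddCommGroup V'] [Module F V']
      [FiniteDimensional F V] [FiniteDimensional F V'] (D : IsoData σ ε V) (D' : IsoData σ ε V'),
      finrank F V = n → LinearMap.charpoly D.g = LinearMap.charpoly D'.g →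
      ∃ φ : V ≃ₗ[F] V', (∀ x y, D'.B (φ x) (φ y) = D.B x y) ∧ ∀ x, φ (D.g x) = D'.g (φ x) := by
  intro n
  induction n using Nat.strong_induction_on with
  | _ n ih =>
    intro V V' _ _ _ _ _ _ D D' hn hchar
    have hn' : finrank F V' = n := by
      rw [← LinearMap.charpoly_natDegree D'.g, ← hchar, LinearMap.charpoly_natDegree, hn]
    rcases Nat.eq_zero_or_pos n with h0 | hpos
    · rw [h0] at hn hn'
      have : Subsingleton V := Module.finrank_zero_iff.mp hn
      have : Subsingleton V' := Module.finrank_zero_iff.mp hn'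
      refine ⟨LinearEquiv.ofSubsingleton V V', fun x y => ?_, fun x => Subsingleton.elim _ _⟩
      rw [Subsingleton.elim x 0]; simp
    · obtain ⟨P, P', hPne, hPg, hP'g, hPnd, hP'nd, ψ, hψB, hψg⟩ :=
        D.exists_matched D' (hn ▸ hpos) hchar
      have hc := D.isCompl_perp hPnd
      have hc' := D'.isCompl_perp hP'nd
      have hPgi := D.gi_mem_of_g_mem hPg
      have hP'gi := D'.gi_mem_of_g_mem hP'g
      have hQg := D.perp_g_mem hPgi
      have hQ'g := D'.perp_g_mem hP'gi
      have hQgi : ∀ v ∈ D.perp P, D.gi v ∈ D.perp P := D.op.perp_g_mem (P := P) hPg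
      have hQ'gi : ∀ v ∈ D'.perp P', D'.gi v ∈ D'.perp P' := D'.op.perp_g_mem (P := P') hP'g
      let DQ := D.restrict (D.perp P) hQg hQgi (D.nondeg_perp hPnd)
      let DQ' := D'.restrict (D'.perp P') hQ'g hQ'gi (D'.nondeg_perp hP'nd)
      -- characteristic polynomials
      have h1 := charpoly_eq_mul_of_isCompl D.g P (D.perp P) hc hPg hQg
      have h2 := charpoly_eq_mul_of_isCompl D'.g P' (D'.perp P') hc' hP'g hQ'g
      have h3 : LinearMap.charpoly (D.g.restrict hPg) = LinearMap.charpoly (D'.g.restrict hP'g) := by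
        rw [← LinearEquiv.charpoly_conj ψ (D.g.restrict hPg)]
        congr 1
        apply LinearMap.ext
        intro p'
        apply Subtype.ext
        rw [LinearEquiv.conj_apply, LinearMap.comp_apply, LinearMap.comp_apply, LinearEquiv.coe_coe,
          LinearEquiv.coe_coe]
        have := hψg (ψ.symm p') (hPg _ (ψ.symm p').2)
        rw [LinearEquiv.apply_symm_apply] at this
        exact this
      have h4 : LinearMap.charpoly DQ.g = LinearMap.charpoly DQ'.g := by
        rw [h1, h2, h3] at hchar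
        exact mul_left_cancel₀ (LinearMap.charpoly_monic _).ne_zero hchar
      have h5 : finrank F (D.perp P) < n := by
        have := Submodule.finrank_add_eq_of_isCompl hc
        have hp : 0 < finrank F P := by
          rw [Nat.pos_iff_ne_zero, Ne, Submodule.finrank_eq_zero]
          exact hPne
        omega
      obtain ⟨φ₂, hφB, hφg⟩ := ih _ h5 (D.perp P) (D'.perp P') DQ DQ' rfl h4
      obtain ⟨φ, hφ⟩ := exists_glue P (D.perp P) P' (D'.perp P') hc hc' ψ φ₂
      refine ⟨φ, fun x y => ?_, fun x => ?_⟩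
      · obtain ⟨p, q, rfl⟩ := exists_decomp hc x
        obtain ⟨p₁, q₁, rfl⟩ := exists_decomp hc y
        rw [hφ, hφ]
        simp only [map_add, LinearMap.add_apply]
        have e1 : D'.B (ψ p : V') (φ₂ q₁ : V') = 0 := (φ₂ q₁).2 _ (ψ p).2
        have e2 : D'.B (φ₂ q : V') (ψ p₁ : V') = 0 := D'.ortho_symm ((φ₂ q).2 _ (ψ p₁).2)
        have e3 : D.B (p : V) (q₁ : V) = 0 := q₁.2 _ p.2
        have e4 : D.B (q : V) (p₁ : V) = 0 := D.ortho_symm (q.2 _ p₁.2)
        have e5 : D'.B (φ₂ q : V') (φ₂ q₁ : V') = D.B (q : V) (q₁ : V) := hφB q q₁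
        rw [e1, e2, e3, e4, e5, hψB]
      · obtain ⟨p, q, rfl⟩ := exists_decomp hc x
        have e1 : D.g ((p : V) + (q : V)) =
            ((⟨D.g p, hPg _ p.2⟩ : P) : V) + ((⟨D.g q, hQg _ q.2⟩ : D.perp P) : V) := by
          rw [map_add]
        rw [e1, hφ, hφ, map_add, hψg p]
        congr 1
        exact congrArg Subtype.val (hφg q)

theorem exists_isometry {F : Type u} [Field F] [Finite F] {σ : F →+* F} {ε : F}
    {V V' : Type v} [AddCommGroup V] [Module F V] [AddCommGroup V'] [Module F V']
    [FiniteDimensional F V] [FiniteDimensional F V'] (D : IsoData σ ε V) (D' : IsoData σ ε V')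
    (hchar : LinearMap.charpoly D.g = LinearMap.charpoly D'.g) :
    ∃ φ : V ≃ₗ[F] V', (∀ x y, D'.B (φ x) (φ y) = D.B x y) ∧ ∀ x, φ (D.g x) = D'.g (φ x) :=
  exists_isometry_aux _ V V' D D' rfl hchar

end Cfsg.Agent.Lib.Helper5.SemiConj
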