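import Mathlib
import Cfsg.Agent.Lib.Helper5.SemiConj.Peel

set_option autoImplicit false

/-!
# Cyclic submodules as copies of `F[X]/(f)`; determinants and norms
-/

namespace Cfsg.Agent.Lib.Helper5.SemiConj

open Polynomial Module

universe u v

section cyc
variable {F : Type u} [Field F] {V : Type v} [AddCommGroup V] [Module F V]

theorem ker_evalAt (g : End F V) {f : F[X]} (hf : Irreducible f) {x : V}
    (hx : aeval g f x = 0) (hne : x ≠ 0) :
    LinearMap.ker (evalAt g x) = LinearMap.ker (AdjoinRoot.mkₐ f).toLinearMap := by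
  ext a
  rw [LinearMap.mem_ker, LinearMap.mem_ker, evalAt_apply]
  show _ ↔ AdjoinRoot.mk f a = 0
  rw [AdjoinRoot.mk_eq_zero]
  constructor
  · intro h
    by_contra hnd
    exact hne (eq_zero_of_aeval_apply_eq_zero g hf hnd hx h)
  · intro h
    exact aeval_apply_eq_zero_of_dvd g h hx

/-- the cyclic submodule generated by `x` is a copy of `F[X]/(f)` -/
noncomputable def cycIso (g : End F V) {f : F[X]} (hf : Irreducible f) {x : V}
    (hx : aeval g f x = 0) (hne : x ≠ 0) :
    AdjoinRoot f ≃ₗ[F] LinearMap.range (evalAt g x) :=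
  ((AdjoinRoot.mkₐ f).toLinearMap.quotKerEquivOfSurjective AdjoinRoot.mk_surjective).symm ≪≫ₗ
    Submodule.quotEquivOfEq _ _ (ker_evalAt g hf hx hne).symm ≪≫ₗ (evalAt g x).quotKerEquivRange

theorem cycIso_mk (g : End F V) {f : F[X]} (hf : Irreducible f) {x : V}
    (hx : aeval g f x = 0) (hne : x ≠ 0) (a : F[X]) :
    (cycIso g hf hx hne (AdjoinRoot.mk f a) : V) = aeval g a x := by
  have h1 : ((AdjoinRoot.mkₐ f).toLinearMap.quotKerEquivOfSurjective AdjoinRoot.mk_surjective).symm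
      (AdjoinRoot.mk f a) = Submodule.Quotient.mk a := by
    rw [LinearEquiv.symm_apply_eq]; rfl
  rw [cycIso, LinearEquiv.trans_apply, LinearEquiv.trans_apply, h1, Submodule.quotEquivOfEq_mk,
    LinearMap.quotKerEquivRange_apply_mk, evalAt_apply]

theorem det_restrict_cyclic (g : End F V) {f : F[X]} (hf : Irreducible f) {x : V}
    (hx : aeval g f x = 0) (hne : x ≠ 0) (u : F[X])
    (hP : ∀ p ∈ LinearMap.range (evalAt g x), aeval g u p ∈ LinearMap.range (evalAt g x)) :
    LinearMap.det ((aeval g u).restrict hP) = Algebra.norm F (AdjoinRoot.mk f u) := by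
  rw [Algebra.norm_apply, ← LinearMap.det_conj _ (cycIso g hf hx hne)]
  congr 1
  apply LinearMap.ext
  intro p
  obtain ⟨e, rfl⟩ := (cycIso g hf hx hne).surjective p
  obtain ⟨a, rfl⟩ := AdjoinRoot.mk_surjective e
  apply Subtype.ext
  rw [LinearMap.comp_apply, LinearMap.comp_apply, LinearEquiv.coe_coe, LinearEquiv.coe_coe,
    LinearEquiv.symm_apply_apply, LinearMap.coe_restrict_apply, cycIso_mk]
  have h1 : (Algebra.lmul F (AdjoinRoot f)) (AdjoinRoot.mk f u) (AdjoinRoot.mk f a) =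
      AdjoinRoot.mk f (u * a) := by
    rw [map_mul]; rfl
  rw [h1, cycIso_mk, aeval_mul_apply]

end cyc

section extend
variable {F : Type u} [Field F] {V : Type v} [AddCommGroup V] [Module F V]

/-- extend an endomorphism of a direct summand by the identity on a complement -/
noncomputable def extendBy {P K : Submodule F V} (hc : IsCompl P K) (t : End F P) : End F V :=
  ((Submodule.prodEquivOfIsCompl P K hc : (P × K) ≃ₗ[F] V) : (P × K) →ₗ[F] V) ∘ₗ
    (t.prodMap LinearMap.id) ∘ₗ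
    (((Submodule.prodEquivOfIsCompl P K hc).symm : V ≃ₗ[F] (P × K)) : V →ₗ[F] (P × K))

theorem extendBy_apply {P K : Submodule F V} (hc : IsCompl P K) (t : End F P) (p : P) (k : K) :
    extendBy hc t ((p : V) + (k : V)) = (t p : V) + (k : V) := by
  have h1 : (Submodule.prodEquivOfIsCompl P K hc).symm ((p : V) + (k : V)) = (p, k) := by
    rw [LinearEquiv.symm_apply_eq, Submodule.coe_prodEquivOfIsCompl']
  rw [extendBy, LinearMap.comp_apply, LinearMap.comp_apply, LinearEquiv.coe_coe,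
    LinearEquiv.coe_coe, h1, LinearMap.prodMap_apply, Submodule.coe_prodEquivOfIsCompl']
  rfl

theorem det_extendBy [FiniteDimensional F V] {P K : Submodule F V} (hc : IsCompl P K)
    (t : End F P) : LinearMap.det (extendBy hc t) = LinearMap.det t := by
  rw [extendBy, LinearMap.det_conj, LinearMap.det_prodMap, LinearMap.det_id, mul_one]

end extend

section norms
variable {F : Type u} [Field F] {σ : F →+* F}

theorem mk_map_eq (f : F[X]) (a : F[X]) (h : f.map σ ∣ f.map σ) :
    AdjoinRoot.map σ f (f.map σ) h (AdjoinRoot.mk f a) = AdjoinRoot.mk (f.map σ) (a.map σ) := by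
  rw [AdjoinRoot.map, AdjoinRoot.lift_mk, ← Polynomial.eval₂_map]
  have h1 : (AdjoinRoot.mk (f.map σ)).comp (C : F →+* F[X]) = AdjoinRoot.of (f.map σ) := by
    ext x; exact AdjoinRoot.mk_C x
  have h2 := Polynomial.hom_eval₂ (a.map σ) (C : F →+* F[X]) (AdjoinRoot.mk (f.map σ)) X
  rw [h1, AdjoinRoot.mk_X] at h2
  rw [← h2, Polynomial.eval₂_C_X]

/-- the norm of the `σ`-conjugate -/
theorem norm_map_sigma (hσ2 : ∀ a, σ (σ a) = a) (f a : F[X]) :
    Algebra.norm F (AdjoinRoot.mk (f.map σ) (a.map σ)) = σ (Algebra.norm F (AdjoinRoot.mk f a)) := by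
  let e₁ : F ≃+* F := RingEquiv.ofRingHom σ σ (RingHom.ext hσ2) (RingHom.ext hσ2)
  have hass : Associated (f.map (e₁ : F →+* F)) (f.map σ) := Associated.refl _
  let e₂ : AdjoinRoot f ≃+* AdjoinRoot (f.map σ) := AdjoinRoot.mapRingEquiv e₁ f (f.map σ) hass
  have he : (algebraMap F (AdjoinRoot (f.map σ))).comp (e₁ : F →+* F) =
      (e₂ : AdjoinRoot f →+* AdjoinRoot (f.map σ)).comp (algebraMap F (AdjoinRoot f)) := by
    ext c
    simp only [RingHom.comp_apply, AdjoinRoot.algebraMap_eq]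
    exact (AdjoinRoot.map_of (e₁ : F →+* F) f (f.map σ) hass.symm.dvd c).symm
  have h := Algebra.norm_eq_of_equiv_equiv e₁ e₂ he (AdjoinRoot.mk f a)
  have h2 : e₂ (AdjoinRoot.mk f a) = AdjoinRoot.mk (f.map σ) (a.map σ) :=
    mk_map_eq f a hass.symm.dvd
  rw [h2] at h
  rw [h]
  exact (e₁.apply_symm_apply _).symm

variable {f r : F[X]}

theorem norm_tau (hσ2 : ∀ a, σ (σ a) = a) (hr : f ∣ X * r - 1) (hsd : f ∣ (f.map σ).comp r)
    (e : AdjoinRoot f) :
    Algebra.norm F (tau σ f r hsd e) = σ (Algebra.norm F e) := by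
  let e₁ : F ≃+* F := RingEquiv.ofRingHom σ σ (RingHom.ext hσ2) (RingHom.ext hσ2)
  let e₂ : AdjoinRoot f ≃+* AdjoinRoot f := RingEquiv.ofRingHom (tau σ f r hsd) (tau σ f r hsd)
    (RingHom.ext (tau_tau hσ2 hr hsd)) (RingHom.ext (tau_tau hσ2 hr hsd))
  have he : (algebraMap F (AdjoinRoot f)).comp (e₁ : F →+* F) =
      (e₂ : AdjoinRoot f →+* AdjoinRoot f).comp (algebraMap F (AdjoinRoot f)) := by
    ext c
    simp only [RingHom.comp_apply, AdjoinRoot.algebraMap_eq]
    exact (tau_of hsd c).symm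
  have h := Algebra.norm_eq_of_equiv_equiv e₁ e₂ he e
  have h2 : e₂ e = tau σ f r hsd e := rfl
  rw [h2] at h
  rw [h]
  exact (e₁.apply_symm_apply _).symm

/-- Hilbert 90 for an involution of a field -/
theorem exists_hilbert90 (hσ : σ ≠ RingHom.id F) (hσ2 : ∀ a, σ (σ a) = a) (d : F)
    (hd : d * σ d = 1) : ∃ c : F, c ≠ 0 ∧ c = d * σ c := by
  have key : ∀ t : F, t + d * σ t = d * σ (t + d * σ t) := by
    intro t
    rw [map_add, map_mul, hσ2]
    linear_combination (-t) * hd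
  by_cases h : ∃ t : F, t + d * σ t ≠ 0
  · obtain ⟨t, ht⟩ := h
    exact ⟨_, ht, key t⟩
  · push Not at h
    exfalso
    apply hσ
    ext t
    have h1 := h 1
    rw [map_one, mul_one] at h1
    have hd1 : d = -1 := by linear_combination h1
    have h2 := h t
    rw [hd1] at h2
    rw [RingHom.id_apply]
    linear_combination -h2

end norms

section normexist
variable {F : Type u} [Field F] [Finite F] {σ : F →+* F} {f r : F[X]}

/-- a unitary element of `F[X]/(f)` with prescribed norm -/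
theorem exists_unitary_norm (hσ : σ ≠ RingHom.id F) (hσ2 : ∀ a, σ (σ a) = a)
    (hf : Irreducible f) (hr : f ∣ X * r - 1) (hsd : f ∣ (f.map σ).comp r) (d : F)
    (hd : d * σ d = 1) :
    ∃ u : F[X], f ∣ (u.map σ).comp r * u - 1 ∧ Algebra.norm F (AdjoinRoot.mk f u) = d := by
  have : Fact (Irreducible f) := ⟨hf⟩
  have := finiteDimensional_adjoinRoot f hf.ne_zero
  have : Finite (AdjoinRoot f) := Module.finite_of_finite F
  obtain ⟨c, hc0, hc⟩ := exists_hilbert90 hσ hσ2 d hd
  obtain ⟨e, he⟩ := FiniteField.norm_surjective F (AdjoinRoot f) c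
  have he0 : e ≠ 0 := by
    rintro rfl
    rw [Algebra.norm_zero] at he
    exact hc0 he.symm
  have hτe0 : tau σ f r hsd e ≠ 0 := by
    rw [Ne, map_eq_zero]; exact he0
  have hσc : σ c ≠ 0 := by
    rw [Ne, map_eq_zero]; exact hc0
  obtain ⟨u, hu⟩ := AdjoinRoot.mk_surjective (e * (tau σ f r hsd e)⁻¹)
  refine ⟨u, ?_, ?_⟩
  · rw [← AdjoinRoot.mk_eq_zero, map_sub, map_mul, map_one, ← tau_mk hsd, hu, map_mul, map_inv₀,
      tau_tau hσ2 hr hsd, sub_eq_zero]
    field_simp
  · rw [hu, map_mul, he]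
    have h1 : Algebra.norm F ((tau σ f r hsd e)⁻¹) = (σ c)⁻¹ := by
      have h2 := norm_tau hσ2 hr hsd e
      rw [he] at h2
      apply eq_inv_of_mul_eq_one_left
      rw [← h2, ← map_mul, inv_mul_cancel₀ hτe0, map_one]
    rw [h1]
    field_simp
    rw [mul_comm]; exact hc

/-- an invertible element of `F[X]/(f)` whose norm `c` satisfies `c / σ c = d` -/
theorem exists_norm_pair (hσ : σ ≠ RingHom.id F) (hσ2 : ∀ a, σ (σ a) = a)
    (hf : Irreducible f) (d : F) (hd : d * σ d = 1) :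
    ∃ u w : F[X], f ∣ u * w - 1 ∧
      Algebra.norm F (AdjoinRoot.mk f u) * σ (Algebra.norm F (AdjoinRoot.mk f w)) = d := by
  have : Fact (Irreducible f) := ⟨hf⟩
  have := finiteDimensional_adjoinRoot f hf.ne_zero
  have : Finite (AdjoinRoot f) := Module.finite_of_finite F
  obtain ⟨c, hc0, hc⟩ := exists_hilbert90 hσ hσ2 d hd
  obtain ⟨e, he⟩ := FiniteField.norm_surjective F (AdjoinRoot f) c
  have he0 : e ≠ 0 := by
    rintro rfl
    rw [Algebra.norm_zero] at he
    exact hc0 he.symm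
  have hσc : σ c ≠ 0 := by
    rw [Ne, map_eq_zero]; exact hc0
  obtain ⟨u, hu⟩ := AdjoinRoot.mk_surjective e
  obtain ⟨w, hw⟩ := AdjoinRoot.mk_surjective e⁻¹
  refine ⟨u, w, ?_, ?_⟩
  · rw [← AdjoinRoot.mk_eq_zero, map_sub, map_mul, map_one, hu, hw, mul_inv_cancel₀ he0, sub_self]
  · rw [hu, hw, he]
    have h1 : Algebra.norm F (e⁻¹) = c⁻¹ := by
      apply eq_inv_of_mul_eq_one_left
      rw [← he, ← map_mul, inv_mul_cancel₀ he0, map_one]
    rw [h1, map_inv₀]
    field_simp
    rw [mul_comm]; exact hc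

end normexist

end Cfsg.Agent.Lib.Helper5.SemiConj
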