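import Mathlib
import Cfsg.Agent.Lib.Helper5.SemiConj.Cyc

set_option autoImplicit false

/-!
# Centralizers of semisimple unitary isometries contain elements of every admissible determinant
-/

namespace Cfsg.Agent.Lib.Helper5.SemiConj

open Polynomial Module

universe u v

section lattice
variable {F : Type u} [Field F] {V : Type v} [AddCommGroup V] [Module F V]

theorem isCompl_of_three {P₁ C Q : Submodule F V} (hd : Disjoint P₁ C) (hc : IsCompl (P₁ ⊔ C) Q) :
    IsCompl P₁ (C ⊔ Q) := by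
  refine ⟨hd.disjoint_sup_right_of_disjoint_sup_left hc.disjoint, ?_⟩
  rw [codisjoint_iff, ← sup_assoc]
  exact hc.sup_eq_top

theorem extendBy_apply' {P K : Submodule F V} (hc : IsCompl P K) (t : End F P) {p k : V}
    (hp : p ∈ P) (hk : k ∈ K) : extendBy hc t (p + k) = (t ⟨p, hp⟩ : V) + k :=
  extendBy_apply hc t ⟨p, hp⟩ ⟨k, hk⟩

end lattice

namespace IsoData

variable {F : Type u} [Field F] {σ : F →+* F} {ε : F} {V : Type v} [AddCommGroup V] [Module F V]
variable (D : IsoData σ ε V) {f r : F[X]}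

theorem g_aeval_gi_comm (a : F[X]) (v : V) : D.g (aeval D.gi a v) = aeval D.gi a (D.g v) := by
  have hc : Commute D.g D.gi := by
    apply LinearMap.ext
    intro w
    rw [Module.End.mul_apply, Module.End.mul_apply, D.g_gi, D.gi_g]
  have hpow : ∀ n : ℕ, D.g ((D.gi ^ n) v) = (D.gi ^ n) (D.g v) := by
    intro n
    have := (hc.pow_right n).eq
    have h2 := LinearMap.congr_fun this v
    rwa [Module.End.mul_apply, Module.End.mul_apply] at h2
  induction a using Polynomial.induction_on' with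
  | add p q hp hq => rw [map_add, LinearMap.add_apply, map_add, hp, hq, LinearMap.add_apply]
  | monomial n c =>
    rw [aeval_monomial, Module.End.mul_apply, Module.End.mul_apply, Module.algebraMap_end_apply,
      Module.algebraMap_end_apply, map_smul, hpow]

theorem g_aeval_comm (a : F[X]) (v : V) : D.g (aeval D.g a v) = aeval D.g a (D.g v) := by
  have := aeval_comm_apply D.g X a v
  rw [aeval_X] at this
  exact this

theorem map_inv_dvd (hr : f ∣ X * r - 1) : f.map σ ∣ X * r.map σ - 1 := by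
  have := Polynomial.map_dvd σ hr
  rwa [Polynomial.map_sub, Polynomial.map_mul, Polynomial.map_X, Polynomial.map_one] at this

include D in
theorem not_sd_map (hsd : ¬ f ∣ (f.map σ).comp r) :
    ¬ f.map σ ∣ ((f.map σ).map σ).comp (r.map σ) := by
  intro h
  apply hsd
  have := Polynomial.map_dvd σ h
  rwa [Polynomial.map_comp, Polynomial.map_map, Polynomial.map_map, Polynomial.map_map,
    D.sig_comp, Polynomial.map_id, Polynomial.map_id] at this

theorem range_evalAt_gi_eq [FiniteDimensional F V] {f₂ r₂ : F[X]} (hr₂ : f₂ ∣ X * r₂ - 1) {y : V}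
    (hy : aeval D.gi f₂ y = 0) :
    LinearMap.range (evalAt D.g y) = LinearMap.range (evalAt D.gi y) := by
  apply le_antisymm
  · rintro _ ⟨b, rfl⟩
    exact ⟨b.comp r₂, (D.op.aeval_gi_eq hr₂ hy b).symm⟩
  · rintro _ ⟨b, rfl⟩
    have hgi := D.gi_mem_of_g_mem (evalAt_range_g_mem D.g y)
    exact aeval_apply_mem D.gi _ hgi b (self_mem_range_evalAt D.g y)

/-- a vector of the dual kernel pairing nontrivially with a given vector -/
theorem exists_dual_vector [FiniteDimensional F V] {z : V} (hz : aeval D.g f z = 0) (hzne : z ≠ 0) :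
    ∃ y, aeval D.gi (f.map σ) y = 0 ∧ D.B z y ≠ 0 := by
  have hv : ∃ v, D.B z v ≠ 0 := by
    by_contra hcon
    push Not at hcon
    exact hzne (D.nondeg_left z hcon)
  obtain ⟨v, hv⟩ := hv
  obtain ⟨k, w, hk, rfl⟩ := exists_ker_add_range (aeval D.gi (f.map σ)) (D.ssi.aeval _) v
  refine ⟨k, hk, ?_⟩
  rw [map_add, ← D.adj f z w, hz, map_zero, LinearMap.zero_apply, add_zero] at hv
  exact hv

/-- the self-dual case -/
theorem exists_centralizer_det_cyclic [Finite F] [FiniteDimensional F V] (hσ : σ ≠ RingHom.id F)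
    (hf : Irreducible f) (hr : f ∣ X * r - 1) (hsd : f ∣ (f.map σ).comp r) {x : V}
    (hx : aeval D.g f x = 0) {k : ℕ} (hk : D.B x ((D.g ^ k) x) ≠ 0) (d : F) (hd : d * σ d = 1) :
    ∃ z : End F V, (∀ v w, D.B (z v) (z w) = D.B v w) ∧ (∀ v, z (D.g v) = D.g (z v)) ∧
      LinearMap.det z = d := by
  obtain ⟨u, hu, hN⟩ := exists_unitary_norm hσ D.sig2 hf hr hsd d hd
  have hxne : x ≠ 0 := by
    rintro rfl
    apply hk
    rw [map_zero, LinearMap.zero_apply]
  have hPnd := D.nondeg_cyclic hf hx hk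
  have hc := D.isCompl_perp hPnd
  have hPg := evalAt_range_g_mem D.g x
  have hPu : ∀ p ∈ LinearMap.range (evalAt D.g x), aeval D.g u p ∈ LinearMap.range (evalAt D.g x) :=
    fun p hp => aeval_apply_mem D.g _ hPg u hp
  have hPA : ∀ p ∈ LinearMap.range (evalAt D.g x), aeval D.g f p = 0 := by
    rintro _ ⟨a, rfl⟩
    exact D.ker_aeval_mem a hx
  have hQg := D.perp_g_mem (D.gi_mem_of_g_mem hPg)
  refine ⟨extendBy hc ((aeval D.g u).restrict hPu), ?_, ?_, ?_⟩
  · intro v w
    obtain ⟨p, q, rfl⟩ := exists_decomp hc v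
    obtain ⟨p₁, q₁, rfl⟩ := exists_decomp hc w
    rw [extendBy_apply, extendBy_apply, LinearMap.coe_restrict_apply, LinearMap.coe_restrict_apply]
    simp only [map_add, LinearMap.add_apply]
    have e1 : D.B (aeval D.g u (p : V)) (q₁ : V) = 0 := q₁.2 _ (hPu _ p.2)
    have e2 : D.B (q : V) (aeval D.g u (p₁ : V)) = 0 := D.ortho_symm (q.2 _ (hPu _ p₁.2))
    have e3 : D.B (p : V) (q₁ : V) = 0 := q₁.2 _ p.2
    have e4 : D.B (q : V) (p₁ : V) = 0 := D.ortho_symm (q.2 _ p₁.2)
    have e5 : D.B (aeval D.g u (p : V)) (aeval D.g u (p₁ : V)) = D.B (p : V) (p₁ : V) := by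
      have hA := hPA _ (hPu _ p₁.2)
      rw [D.adjA hr hA u, ← aeval_mul_apply]
      have := aeval_apply_congr_of_dvd D.g hu (hPA _ p₁.2)
      rw [this, aeval_one_apply]
    rw [e1, e2, e3, e4, e5]
  · intro v
    obtain ⟨p, q, rfl⟩ := exists_decomp hc v
    have h1 : D.g ((p : V) + (q : V)) = D.g (p : V) + D.g (q : V) := map_add _ _ _
    rw [h1, extendBy_apply' hc _ (hPg _ p.2) (hQg _ q.2), extendBy_apply, map_add,
      LinearMap.coe_restrict_apply, LinearMap.coe_restrict_apply, D.g_aeval_comm]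
  · rw [det_extendBy, det_restrict_cyclic D.g hf hx hxne, hN]

end IsoData

end Cfsg.Agent.Lib.Helper5.SemiConj
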