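import Mathlib
import Cfsg.Agent.Lib.Helper5.SemiConj.DetAdj

set_option autoImplicit false

/-!
# Centralizers of semisimple unitary isometries: the non-self-dual case and the conclusion
-/

namespace Cfsg.Agent.Lib.Helper5.SemiConj

open Polynomial Module

universe u v

namespace IsoData

variable {F : Type u} [Field F] {σ : F →+* F} {ε : F} {V : Type v} [AddCommGroup V] [Module F V]
variable (D : IsoData σ ε V) {f r : F[X]}

/-- the non-self-dual case -/
theorem exists_centralizer_det_pair [Finite F] [FiniteDimensional F V] (hσ : σ ≠ RingHom.id F)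
    (hf : Irreducible f) (hr : f ∣ X * r - 1) (hsd : ¬ f ∣ (f.map σ).comp r) {x y : V}
    (hx : aeval D.g f x = 0) (hy : aeval D.gi (f.map σ) y = 0) (hxy : D.B x y ≠ 0)
    (d : F) (hd : d * σ d = 1) :
    ∃ z : End F V, (∀ v w, D.B (z v) (z w) = D.B v w) ∧ (∀ v, z (D.g v) = D.g (z v)) ∧
      LinearMap.det z = d := by
  obtain ⟨u, w, huw, hN⟩ := exists_norm_pair hσ D.sig2 hf d hd
  have hf₂ : Irreducible (f.map σ) := irreducible_map_of_involutive D.sig2 hf
  have hr₂ := map_inv_dvd (σ := σ) hr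
  have hsd₂ := D.not_sd_map hsd
  have hxne : x ≠ 0 := by
    rintro rfl
    apply hxy
    rw [map_zero, LinearMap.zero_apply]
  have hyne : y ≠ 0 := by
    rintro rfl
    apply hxy
    rw [map_zero]
  -- isotropy
  have hA : ∀ z z', aeval D.g f z = 0 → aeval D.g f z' = 0 → D.B z z' = 0 :=
    fun z z' hz hz' => D.isotropic_of_not_sd hf hr hsd hz hz'
  have hAt : ∀ z z', aeval D.gi (f.map σ) z = 0 → aeval D.gi (f.map σ) z' = 0 → D.B z z' = 0 :=
    fun z z' hz hz' => D.op.isotropic_of_not_sd hf₂ hr₂ hsd₂ hz hz'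
  -- the pieces
  have hP₁A : ∀ p ∈ LinearMap.range (evalAt D.g x), aeval D.g f p = 0 := by
    rintro _ ⟨a, rfl⟩
    exact D.ker_aeval_mem a hx
  have hCA : ∀ c ∈ LinearMap.range (evalAt D.gi y), aeval D.gi (f.map σ) c = 0 := by
    rintro _ ⟨a, rfl⟩
    exact D.op.ker_aeval_mem a hy
  have hdisj : Disjoint (LinearMap.range (evalAt D.g x)) (LinearMap.range (evalAt D.gi y)) := by
    rw [Submodule.disjoint_def]
    intro z hz hz'
    have h1 := hP₁A z hz
    have h2 := hCA z hz'
    rw [D.aeval_gi_eq hr h1] at h2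
    exact eq_zero_of_aeval_apply_eq_zero D.g hf hsd h1 h2
  have hiso : ∀ a a₁ : F[X], D.B (aeval D.g a₁ x) (aeval D.g a x) = 0 := fun a a₁ =>
    hA _ _ (D.ker_aeval_mem a₁ hx) (D.ker_aeval_mem a hx)
  have hPnd : D.Nondeg (LinearMap.range (evalAt D.g x) ⊔ LinearMap.range (evalAt D.gi y)) := by
    have := D.nondeg_pair hf hf₂ hr₂ hx hy hiso hxy
    rwa [LinearMap.range_coprod, D.range_evalAt_gi_eq hr₂ hy] at this
  have hc := D.isCompl_perp hPnd
  have hca := isCompl_of_three hdisj hc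
  have hcb : IsCompl (LinearMap.range (evalAt D.gi y))
      (LinearMap.range (evalAt D.g x) ⊔ D.perp (LinearMap.range (evalAt D.g x) ⊔
        LinearMap.range (evalAt D.gi y))) := by
    have hc' : IsCompl (LinearMap.range (evalAt D.gi y) ⊔ LinearMap.range (evalAt D.g x))
        (D.perp (LinearMap.range (evalAt D.g x) ⊔ LinearMap.range (evalAt D.gi y))) := by
      rw [sup_comm]; exact hc
    exact isCompl_of_three hdisj.symm hc'
  -- invariance
  have hP₁g := evalAt_range_g_mem D.g x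
  have hCgi : ∀ c ∈ LinearMap.range (evalAt D.gi y), D.gi c ∈ LinearMap.range (evalAt D.gi y) :=
    evalAt_range_g_mem D.gi y
  have hCg : ∀ c ∈ LinearMap.range (evalAt D.gi y), D.g c ∈ LinearMap.range (evalAt D.gi y) :=
    D.op.gi_mem_of_g_mem hCgi
  have hP₁u : ∀ p ∈ LinearMap.range (evalAt D.g x),
      aeval D.g u p ∈ LinearMap.range (evalAt D.g x) :=
    fun p hp => aeval_apply_mem D.g _ hP₁g u hp
  have hCw : ∀ c ∈ LinearMap.range (evalAt D.gi y),
      aeval D.gi (w.map σ) c ∈ LinearMap.range (evalAt D.gi y) :=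
    fun c hc => aeval_apply_mem D.gi _ hCgi (w.map σ) hc
  have hPg : ∀ p ∈ LinearMap.range (evalAt D.g x) ⊔ LinearMap.range (evalAt D.gi y),
      D.g p ∈ LinearMap.range (evalAt D.g x) ⊔ LinearMap.range (evalAt D.gi y) := by
    intro p hp
    obtain ⟨p₁, hp₁, c, hc₁, rfl⟩ := Submodule.mem_sup.mp hp
    rw [map_add]
    exact Submodule.add_mem_sup (hP₁g _ hp₁) (hCg _ hc₁)
  have hQg := D.perp_g_mem (D.gi_mem_of_g_mem hPg)
  -- the key duality
  have key : ∀ p ∈ LinearMap.range (evalAt D.g x), ∀ c ∈ LinearMap.range (evalAt D.gi y),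
      D.B (aeval D.g u p) (aeval D.gi (w.map σ) c) = D.B p c := by
    intro p _ c hc₁
    rw [D.adj, ← aeval_mul_apply, ← Polynomial.map_mul]
    have h1 : f.map σ ∣ (u * w).map σ - 1 := by
      have := Polynomial.map_dvd σ huw
      rwa [Polynomial.map_sub, Polynomial.map_one] at this
    have := aeval_apply_congr_of_dvd D.gi h1 (hCA c hc₁)
    rw [this, aeval_one_apply]
  have key' : ∀ p ∈ LinearMap.range (evalAt D.g x), ∀ c ∈ LinearMap.range (evalAt D.gi y),
      D.B (aeval D.gi (w.map σ) c) (aeval D.g u p) = D.B c p := by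
    intro p hp c hc₁
    rw [D.B_swap (aeval D.g u p), D.B_swap p, key p hp c hc₁]
  -- the isometry
  let za := extendBy hca ((aeval D.g u).restrict hP₁u)
  let zb := extendBy hcb ((aeval D.gi (w.map σ)).restrict hCw)
  have hz : ∀ (p c q : V) (hp : p ∈ LinearMap.range (evalAt D.g x))
      (hc₁ : c ∈ LinearMap.range (evalAt D.gi y))
      (hq : q ∈ D.perp (LinearMap.range (evalAt D.g x) ⊔ LinearMap.range (evalAt D.gi y))),
      za (zb (p + c + q)) = aeval D.g u p + aeval D.gi (w.map σ) c + q := by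
    intro p c q hp hc₁ hq
    have e1 : p + c + q = c + (p + q) := by abel
    have h1 : zb (p + c + q) = aeval D.gi (w.map σ) c + (p + q) := by
      rw [e1]
      exact extendBy_apply' hcb _ hc₁ (Submodule.add_mem_sup hp hq)
    have e2 : aeval D.gi (w.map σ) c + (p + q) = p + (aeval D.gi (w.map σ) c + q) := by abel
    rw [h1, e2]
    have h2 := extendBy_apply' hca ((aeval D.g u).restrict hP₁u) hp
      (Submodule.add_mem_sup (hCw c hc₁) hq)
    rw [show za = extendBy hca ((aeval D.g u).restrict hP₁u) from rfl, h2,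
      LinearMap.coe_restrict_apply]
    abel
  have hdec : ∀ v : V, ∃ p ∈ LinearMap.range (evalAt D.g x),
      ∃ c ∈ LinearMap.range (evalAt D.gi y),
      ∃ q ∈ D.perp (LinearMap.range (evalAt D.g x) ⊔ LinearMap.range (evalAt D.gi y)),
      v = p + c + q := by
    intro v
    obtain ⟨pc, q, rfl⟩ := exists_decomp hc v
    obtain ⟨p, hp, c, hc₁, hpc⟩ := Submodule.mem_sup.mp pc.2
    exact ⟨p, hp, c, hc₁, q, q.2, by rw [hpc]⟩
  refine ⟨za ∘ₗ zb, ?_, ?_, ?_⟩
  · intro v v'
    obtain ⟨p, hp, c, hc₁, q, hq, rfl⟩ := hdec v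
    obtain ⟨p', hp', c', hc₁', q', hq', rfl⟩ := hdec v'
    rw [LinearMap.comp_apply, LinearMap.comp_apply, hz p c q hp hc₁ hq, hz p' c' q' hp' hc₁' hq']
    simp only [map_add, LinearMap.add_apply]
    have mP : ∀ p₀ ∈ LinearMap.range (evalAt D.g x),
        p₀ ∈ LinearMap.range (evalAt D.g x) ⊔ LinearMap.range (evalAt D.gi y) :=
      fun p₀ h => Submodule.mem_sup_left h
    have mC : ∀ c₀ ∈ LinearMap.range (evalAt D.gi y),
        c₀ ∈ LinearMap.range (evalAt D.g x) ⊔ LinearMap.range (evalAt D.gi y) :=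
      fun c₀ h => Submodule.mem_sup_right h
    have a1 : D.B (aeval D.g u p) (aeval D.g u p') = 0 :=
      hA _ _ (hP₁A _ (hP₁u p hp)) (hP₁A _ (hP₁u p' hp'))
    have a2 : D.B p p' = 0 := hA _ _ (hP₁A _ hp) (hP₁A _ hp')
    have a3 : D.B (aeval D.gi (w.map σ) c) (aeval D.gi (w.map σ) c') = 0 :=
      hAt _ _ (hCA _ (hCw c hc₁)) (hCA _ (hCw c' hc₁'))
    have a4 : D.B c c' = 0 := hAt _ _ (hCA _ hc₁) (hCA _ hc₁')
    have a5 : D.B (aeval D.g u p) q' = 0 := hq' _ (mP _ (hP₁u p hp))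
    have a6 : D.B p q' = 0 := hq' _ (mP _ hp)
    have a7 : D.B (aeval D.gi (w.map σ) c) q' = 0 := hq' _ (mC _ (hCw c hc₁))
    have a8 : D.B c q' = 0 := hq' _ (mC _ hc₁)
    have a9 : D.B q (aeval D.g u p') = 0 := D.ortho_symm (hq _ (mP _ (hP₁u p' hp')))
    have a10 : D.B q p' = 0 := D.ortho_symm (hq _ (mP _ hp'))
    have a11 : D.B q (aeval D.gi (w.map σ) c') = 0 := D.ortho_symm (hq _ (mC _ (hCw c' hc₁')))
    have a12 : D.B q c' = 0 := D.ortho_symm (hq _ (mC _ hc₁'))
    rw [a1, a2, a3, a4, a5, a6, a7, a8, a9, a10, a11, a12, key p hp c' hc₁', key' p' hp' c hc₁]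
  · intro v
    obtain ⟨p, hp, c, hc₁, q, hq, rfl⟩ := hdec v
    have h1 : D.g (p + c + q) = D.g p + D.g c + D.g q := by rw [map_add, map_add]
    rw [LinearMap.comp_apply, LinearMap.comp_apply, h1, hz _ _ _ (hP₁g p hp) (hCg c hc₁) (hQg q hq),
      hz p c q hp hc₁ hq, map_add, map_add, D.g_aeval_comm, D.g_aeval_gi_comm]
  · rw [LinearMap.det_comp]
    rw [show za = extendBy hca ((aeval D.g u).restrict hP₁u) from rfl,
      show zb = extendBy hcb ((aeval D.gi (w.map σ)).restrict hCw) from rfl,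
      det_extendBy, det_extendBy, det_restrict_cyclic D.g hf hx hxne,
      det_restrict_cyclic D.gi hf₂ hy hyne, norm_map_sigma D.sig2, hN]

/-- **Determinants of centralizers.** If `σ ≠ id`, the centralizer of a semisimple isometry in the
isometry group contains elements of every determinant `d` with `d σ(d) = 1`. -/
theorem exists_centralizer_det [Finite F] [FiniteDimensional F V] (hσ : σ ≠ RingHom.id F)
    (hV : 0 < finrank F V) (d : F) (hd : d * σ d = 1) :
    ∃ z : End F V, (∀ v w, D.B (z v) (z w) = D.B v w) ∧ (∀ v, z (D.g v) = D.g (z v)) ∧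
      LinearMap.det z = d := by
  classical
  have hdeg : (LinearMap.charpoly D.g).natDegree = finrank F V := LinearMap.charpoly_natDegree D.g
  have hnu : ¬ IsUnit (LinearMap.charpoly D.g) := fun h => by
    have := Polynomial.natDegree_eq_zero_of_isUnit h
    omega
  have hn0 : LinearMap.charpoly D.g ≠ 0 := (LinearMap.charpoly_monic D.g).ne_zero
  obtain ⟨f, hf, hfd⟩ := WfDvdMonoid.exists_irreducible_factor hnu hn0
  obtain ⟨x, hxne, hx⟩ := exists_ne_zero_of_dvd_charpoly D.g hf hfd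
  obtain ⟨r, hr⟩ := exists_inv_X hf (D.ne_zero_not_dvd_X hx hxne)
  by_cases hsd : f ∣ (f.map σ).comp r
  · obtain ⟨x₁, hx₁, k, hk⟩ := D.exists_moment_ne_zero hf hr hsd (Or.inl hσ) hx hxne
    exact D.exists_centralizer_det_cyclic hσ hf hr hsd hx₁ hk d hd
  · obtain ⟨y, hy, hxy⟩ := D.exists_dual_vector hx hxne
    exact D.exists_centralizer_det_pair hσ hf hr hsd hx hy hxy d hd

end IsoData

end Cfsg.Agent.Lib.Helper5.SemiConj
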