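import Mathlib
import Cfsg.Agent.Lib.Helper5.SemiConj.Main
import Cfsg.Agent.Lib.Helper5.SympBridge

set_option autoImplicit false

/-!
# Semisimple elements of `Sp_{2n}(q)` with the same characteristic polynomial are conjugate
-/

namespace Cfsg.Agent.Lib.Helper5.SemiConj

open Polynomial Module Matrix Cfsg
open Cfsg.Agent.Lib.Helper5.SympBridge Cfsg.Agent.Lib.Helper5.SympTv

section semisimple
variable {F : Type*} [Field F] {ι : Type*} [Fintype ι] [DecidableEq ι]

theorem toLin'_pow_eq (M : Matrix ι ι F) (k : ℕ) : (Matrix.toLin' M) ^ k = Matrix.toLin' (M ^ k) := by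
  induction k with
  | zero => rw [pow_zero, pow_zero, Matrix.toLin'_one]; rfl
  | succ k ih => rw [pow_succ, pow_succ, Matrix.toLin'_mul, ih]; rfl

theorem isSemisimple_toLin'_of_pow_eq_one (M : Matrix ι ι F) (m : ℕ) (hm : (m : F) ≠ 0)
    (h : M ^ m = 1) : Module.End.IsSemisimple (Matrix.toLin' M) := by
  have hsep : (X ^ m - C (1 : F) : F[X]).Separable :=
    Polynomial.separable_X_pow_sub_C (1 : F) hm one_ne_zero
  apply Module.End.isSemisimple_of_squarefree_aeval_eq_zero hsep.squarefree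
  rw [map_sub, map_pow, aeval_X, aeval_C, toLin'_pow_eq, h, Matrix.toLin'_one, map_one]
  exact sub_self _

theorem natCast_ne_zero_of_coprime (p : ℕ) [Fact p.Prime] [CharP F p] {m : ℕ}
    (hm : m.Coprime p) : (m : F) ≠ 0 := by
  intro h
  have hd := (CharP.cast_eq_zero_iff F p m).mp h
  have h1 : p ∣ Nat.gcd m p := Nat.dvd_gcd hd dvd_rfl
  rw [hm] at h1
  exact (Fact.out : p.Prime).one_lt.ne' (Nat.dvd_one.mp h1)

end semisimple

section sp
variable {F : Type*} [Field F] (p : ℕ) [Fact p.Prime] [CharP F p] (n : ℕ)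

theorem symp_coe_pow (A : ↥(Matrix.symplecticGroup (Fin n) F)) (k : ℕ) :
    ((A ^ k : ↥(Matrix.symplecticGroup (Fin n) F)) : Matrix (Fin n ⊕ Fin n) (Fin n ⊕ Fin n) F) =
      (A : Matrix (Fin n ⊕ Fin n) (Fin n ⊕ Fin n) F) ^ k :=
  SubmonoidClass.coe_pow A k

theorem symp_isSemisimple (A : ↥(Matrix.symplecticGroup (Fin n) F))
    (hA : (orderOf A).Coprime p) :
    Module.End.IsSemisimple
      (Matrix.toLin' (A : Matrix (Fin n ⊕ Fin n) (Fin n ⊕ Fin n) F)) := by
  apply isSemisimple_toLin'_of_pow_eq_one _ (orderOf A) (natCast_ne_zero_of_coprime p hA)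
  rw [← symp_coe_pow, pow_orderOf_eq_one]
  rfl

theorem symp_inv_mul (A : ↥(Matrix.symplecticGroup (Fin n) F)) :
    ((A⁻¹ : ↥(Matrix.symplecticGroup (Fin n) F)) : Matrix (Fin n ⊕ Fin n) (Fin n ⊕ Fin n) F) *
      (A : Matrix (Fin n ⊕ Fin n) (Fin n ⊕ Fin n) F) = 1 := by
  have := congrArg (Subtype.val) (inv_mul_cancel A)
  exact this

theorem symp_mul_inv (A : ↥(Matrix.symplecticGroup (Fin n) F)) :
    (A : Matrix (Fin n ⊕ Fin n) (Fin n ⊕ Fin n) F) *
      ((A⁻¹ : ↥(Matrix.symplecticGroup (Fin n) F)) : Matrix (Fin n ⊕ Fin n) (Fin n ⊕ Fin n) F) = 1 := by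
  have := congrArg (Subtype.val) (mul_inv_cancel A)
  exact this

/-- the data attached to a `p'`-element of the symplectic group -/
noncomputable def sympData (A : ↥(Matrix.symplecticGroup (Fin n) F)) (hA : (orderOf A).Coprime p) :
    IsoData (RingHom.id F) (-1 : F) (Fin n ⊕ Fin n → F) where
  B := sympBilin F n
  g := Matrix.toLin' (A : Matrix (Fin n ⊕ Fin n) (Fin n ⊕ Fin n) F)
  gi := Matrix.toLin' ((A⁻¹ : ↥(Matrix.symplecticGroup (Fin n) F)) :
    Matrix (Fin n ⊕ Fin n) (Fin n ⊕ Fin n) F)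
  sig2 := fun a => rfl
  eps := neg_ne_zero.mpr one_ne_zero
  herm := fun x y => by
    rw [RingHom.id_apply, sympBilin_apply, sympBilin_apply, sympForm_swap]; ring
  alt := fun _ x => sympBilin_isAlt n x
  nondeg := fun v h => (sympBilin_nondegenerate n).2 v h
  isom := fun x y => by
    rw [sympBilin_apply, sympBilin_apply, Matrix.toLin'_apply, Matrix.toLin'_apply]
    exact (mem_symplectic_iff n _).mp A.2 x y
  gi_g := fun x => by
    rw [Matrix.toLin'_apply, Matrix.toLin'_apply, Matrix.mulVec_mulVec, symp_inv_mul,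
      Matrix.one_mulVec]
  g_gi := fun x => by
    rw [Matrix.toLin'_apply, Matrix.toLin'_apply, Matrix.mulVec_mulVec, symp_mul_inv,
      Matrix.one_mulVec]
  ss := symp_isSemisimple p n A hA
  ssi := symp_isSemisimple p n A⁻¹ (by rwa [orderOf_inv])

theorem sympData_g (A : ↥(Matrix.symplecticGroup (Fin n) F)) (hA : (orderOf A).Coprime p) :
    (sympData p n A hA).g = Matrix.toLin' (A : Matrix (Fin n ⊕ Fin n) (Fin n ⊕ Fin n) F) := rfl

theorem sympData_B (A : ↥(Matrix.symplecticGroup (Fin n) F)) (hA : (orderOf A).Coprime p) :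
    (sympData p n A hA).B = sympBilin F n := rfl

theorem symp_conj_of_charpoly_eq [Finite F] (g h : ↥(Matrix.symplecticGroup (Fin n) F))
    (hg : (orderOf g).Coprime p) (hh : (orderOf h).Coprime p)
    (hc : (g : Matrix (Fin n ⊕ Fin n) (Fin n ⊕ Fin n) F).charpoly =
      (h : Matrix (Fin n ⊕ Fin n) (Fin n ⊕ Fin n) F).charpoly) : IsConj g h := by
  have hchar : LinearMap.charpoly (sympData p n g hg).g = LinearMap.charpoly (sympData p n h hh).g := by
    rw [sympData_g, sympData_g, Matrix.charpoly_toLin', Matrix.charpoly_toLin', hc]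
  obtain ⟨φ, hφB, hφg⟩ := exists_isometry (sympData p n g hg) (sympData p n h hh) hchar
  have hφB' : ∀ u v, sympForm n F (φ u) (φ v) = sympForm n F u v := by
    intro u v
    have := hφB u v
    rw [sympData_B, sympData_B, sympBilin_apply, sympBilin_apply] at this
    exact this
  have hφg' : ∀ v, φ ((g : Matrix (Fin n ⊕ Fin n) (Fin n ⊕ Fin n) F) *ᵥ v) =
      (h : Matrix (Fin n ⊕ Fin n) (Fin n ⊕ Fin n) F) *ᵥ (φ v) := by
    intro v
    have := hφg v
    rw [sympData_g, sympData_g, Matrix.toLin'_apply, Matrix.toLin'_apply] at this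
    exact this
  obtain ⟨A, hA⟩ := exists_symplectic_of_isometry n φ hφB'
  rw [isConj_iff]
  refine ⟨A, ?_⟩
  rw [mul_inv_eq_iff_eq_mul]
  apply Subtype.ext
  show (A : Matrix (Fin n ⊕ Fin n) (Fin n ⊕ Fin n) F) * (g : Matrix _ _ F) =
    (h : Matrix _ _ F) * (A : Matrix _ _ F)
  apply Matrix.toLin'.injective
  apply LinearMap.ext
  intro v
  rw [Matrix.toLin'_apply, Matrix.toLin'_apply, ← Matrix.mulVec_mulVec, ← Matrix.mulVec_mulVec,
    hA, hA]
  exact hφg' v

end sp

end Cfsg.Agent.Lib.Helper5.SemiConj
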