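import Mathlib
import Cfsg.Agent.Lib.Helper5.SemiConj.Sp
import Cfsg.Agent.Lib.Helper5.SemiConj.DetAdj2
import Cfsg.Agent.Lib.Helper5.HermBridge
import Cfsg.Agent.Lib.Helper5.HermCard

set_option autoImplicit false

/-!
# Semisimple elements of `SU_n(q)` with the same characteristic polynomial are conjugate
-/

namespace Cfsg.Agent.Lib.Helper5.SemiConj

open Polynomial Module Matrix Cfsg
open Cfsg.Agent.Lib.Helper5.HermBridge Cfsg.Agent.Lib.Helper5.HermCard

section su
variable {F : Type*} [Field F] [Fintype F] {q : ℕ} (hF : Fintype.card F = q ^ 2)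
  (p : ℕ) [Fact p.Prime] [CharP F p] (n : ℕ)

/-- the underlying matrix of an element of `SU` -/
abbrev suMat (A : ↥(Cfsg.SU n F q)) : Matrix (Fin n) (Fin n) F :=
  ((A : Matrix.SpecialLinearGroup (Fin n) F) : Matrix (Fin n) (Fin n) F)

omit [Fintype F] in
theorem suMat_mul (A B : ↥(Cfsg.SU n F q)) : suMat n (A * B) = suMat n A * suMat n B := rfl

omit [Fintype F] in
theorem suMat_one : suMat n (1 : ↥(Cfsg.SU n F q)) = 1 := rfl

omit [Fintype F] in
theorem suMat_pow (A : ↥(Cfsg.SU n F q)) (k : ℕ) : suMat n (A ^ k) = suMat n A ^ k := by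
  induction k with
  | zero => rw [pow_zero, pow_zero, suMat_one]
  | succ k ih => rw [pow_succ, pow_succ, suMat_mul, ih]

omit [Fintype F] in
theorem suMat_preserves (A : ↥(Cfsg.SU n F q)) (u v : Fin n → F) :
    hermForm n F q (suMat n A *ᵥ u) (suMat n A *ᵥ v) = hermForm n F q u v := A.2 u v

omit [Fintype F] in
theorem su_isSemisimple (A : ↥(Cfsg.SU n F q)) (hA : (orderOf A).Coprime p) :
    Module.End.IsSemisimple (Matrix.toLin' (suMat n A)) := by
  apply isSemisimple_toLin'_of_pow_eq_one _ (orderOf A) (natCast_ne_zero_of_coprime p hA)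
  rw [← suMat_pow, pow_orderOf_eq_one, suMat_one]

/-- the data attached to a `p'`-element of the special unitary group -/
noncomputable def unitData (A : ↥(Cfsg.SU n F q)) (hA : (orderOf A).Coprime p) :
    IsoData (sigma hF) (1 : F) (Fin n → F) where
  B := hermSesq hF n
  g := Matrix.toLin' (suMat n A)
  gi := Matrix.toLin' (suMat n A⁻¹)
  sig2 := sigma_sigma hF
  eps := one_ne_zero
  herm := fun x y => by rw [one_mul]; exact (hermSesq_isSymm hF n).eq x y
  alt := fun h => absurd h (sigma_ne_id hF)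
  nondeg := fun v h => (hermSesq_nondegenerate hF n).2 v h
  isom := fun x y => by
    rw [hermSesq_apply, hermSesq_apply, Matrix.toLin'_apply, Matrix.toLin'_apply]
    exact suMat_preserves n A y x
  gi_g := fun x => by
    rw [Matrix.toLin'_apply, Matrix.toLin'_apply, Matrix.mulVec_mulVec, ← suMat_mul,
      inv_mul_cancel, suMat_one, Matrix.one_mulVec]
  g_gi := fun x => by
    rw [Matrix.toLin'_apply, Matrix.toLin'_apply, Matrix.mulVec_mulVec, ← suMat_mul,
      mul_inv_cancel, suMat_one, Matrix.one_mulVec]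
  ss := su_isSemisimple p n A hA
  ssi := su_isSemisimple p n A⁻¹ (by rwa [orderOf_inv])

theorem unitData_g (A : ↥(Cfsg.SU n F q)) (hA : (orderOf A).Coprime p) :
    (unitData hF p n A hA).g = Matrix.toLin' (suMat n A) := rfl

theorem unitData_B (A : ↥(Cfsg.SU n F q)) (hA : (orderOf A).Coprime p) :
    (unitData hF p n A hA).B = hermSesq hF n := rfl

include hF in
theorem su_conj_of_charpoly_eq (g h : ↥(Cfsg.SU n F q))
    (hg : (orderOf g).Coprime p) (hh : (orderOf h).Coprime p)
    (hc : (suMat n g).charpoly = (suMat n h).charpoly) : IsConj g h := by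
  rcases Nat.eq_zero_or_pos n with hn | hn
  · subst hn
    have : g = h := by
      apply Subtype.ext
      apply Subtype.ext
      ext i
      exact i.elim0
    rw [this]
  have hchar : LinearMap.charpoly (unitData hF p n g hg).g =
      LinearMap.charpoly (unitData hF p n h hh).g := by
    rw [unitData_g, unitData_g, Matrix.charpoly_toLin', Matrix.charpoly_toLin', hc]
  obtain ⟨φ, hφB, hφg⟩ := exists_isometry (unitData hF p n g hg) (unitData hF p n h hh) hchar
  have hφB' : ∀ u v, hermForm n F q (φ u) (φ v) = hermForm n F q u v := by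
    intro u v
    have := hφB v u
    rw [unitData_B, unitData_B, hermSesq_apply, hermSesq_apply] at this
    exact this
  have hφg' : ∀ v, φ (suMat n g *ᵥ v) = suMat n h *ᵥ (φ v) := by
    intro v
    have := hφg v
    rw [unitData_g, unitData_g, Matrix.toLin'_apply, Matrix.toLin'_apply] at this
    exact this
  obtain ⟨A, hA⟩ := exists_GU_of_isometry n φ hφB'
  -- determinant adjustment
  have hdetA : ((A : Matrix.GeneralLinearGroup (Fin n) F) : Matrix (Fin n) (Fin n) F).det ^ (q + 1)
      = 1 := by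
    have h1 := detGU_mem_ker hF A
    rw [MonoidHom.mem_ker] at h1
    have h2 := congrArg (fun x : Fˣ => (x : F)) h1
    exact h2
  obtain ⟨d, hddef⟩ : ∃ d : F,
      d = (((A : Matrix.GeneralLinearGroup (Fin n) F) : Matrix (Fin n) (Fin n) F).det)⁻¹ := ⟨_, rfl⟩
  have hdet0 : ((A : Matrix.GeneralLinearGroup (Fin n) F) : Matrix (Fin n) (Fin n) F).det ≠ 0 := by
    intro h0
    rw [h0, zero_pow (by omega)] at hdetA
    exact zero_ne_one hdetA
  have hd : d * sigma hF d = 1 := by
    rw [sigma_apply, ← pow_succ', hddef, inv_pow, hdetA, inv_one]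
  have hfr : 0 < finrank F (Fin n → F) := by
    rw [Module.finrank_fin_fun]; exact hn
  obtain ⟨z, hzB, hzg, hzdet⟩ := (unitData hF p n g hg).exists_centralizer_det (sigma_ne_id hF)
    hfr d hd
  have hd0 : d ≠ 0 := by
    rw [hddef]; exact inv_ne_zero hdet0
  have hzB' : ∀ u v, hermForm n F q (z u) (z v) = hermForm n F q u v := by
    intro u v
    have := hzB v u
    rw [unitData_B, hermSesq_apply, hermSesq_apply] at this
    exact this
  have hzg' : ∀ v, z (suMat n g *ᵥ v) = suMat n g *ᵥ (z v) := by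
    intro v
    have := hzg v
    rw [unitData_g, Matrix.toLin'_apply, Matrix.toLin'_apply] at this
    exact this
  obtain ⟨Z, hZ⟩ := exists_GU_of_isometry n (LinearMap.equivOfDetNeZero z (by rw [hzdet]; exact hd0))
    (fun u v => hzB' u v)
  have hZ' : ∀ v, ((Z : Matrix.GeneralLinearGroup (Fin n) F) : Matrix (Fin n) (Fin n) F) *ᵥ v = z v :=
    fun v => hZ v
  have hZdet : ((Z : Matrix.GeneralLinearGroup (Fin n) F) : Matrix (Fin n) (Fin n) F).det = d := by
    rw [← LinearMap.det_toLin', ← hzdet]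
    congr 1
    apply LinearMap.ext
    intro v
    rw [Matrix.toLin'_apply, hZ']
  -- the conjugating element
  have hCdet : (((A * Z : ↥(Cfsg.GU n F q)) : Matrix.GeneralLinearGroup (Fin n) F) :
      Matrix (Fin n) (Fin n) F).det = 1 := by
    have : (((A * Z : ↥(Cfsg.GU n F q)) : Matrix.GeneralLinearGroup (Fin n) F) :
        Matrix (Fin n) (Fin n) F) =
        ((A : Matrix.GeneralLinearGroup (Fin n) F) : Matrix (Fin n) (Fin n) F) *
        ((Z : Matrix.GeneralLinearGroup (Fin n) F) : Matrix (Fin n) (Fin n) F) := rfl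
    rw [this, Matrix.det_mul, hZdet, hddef, mul_inv_cancel₀ hdet0]
  have hCpres : ∀ u v, hermForm n F q
      ((((A * Z : ↥(Cfsg.GU n F q)) : Matrix.GeneralLinearGroup (Fin n) F) :
        Matrix (Fin n) (Fin n) F) *ᵥ u)
      ((((A * Z : ↥(Cfsg.GU n F q)) : Matrix.GeneralLinearGroup (Fin n) F) :
        Matrix (Fin n) (Fin n) F) *ᵥ v) = hermForm n F q u v := (A * Z).2
  let c : ↥(Cfsg.SU n F q) := ⟨⟨_, hCdet⟩, hCpres⟩
  have hcm : suMat n c = ((A : Matrix.GeneralLinearGroup (Fin n) F) : Matrix (Fin n) (Fin n) F) *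
      ((Z : Matrix.GeneralLinearGroup (Fin n) F) : Matrix (Fin n) (Fin n) F) := rfl
  rw [isConj_iff]
  refine ⟨c, ?_⟩
  rw [mul_inv_eq_iff_eq_mul]
  apply Subtype.ext
  apply Subtype.ext
  show suMat n (c * g) = suMat n (h * c)
  rw [suMat_mul, suMat_mul, hcm]
  apply Matrix.toLin'.injective
  apply LinearMap.ext
  intro v
  rw [Matrix.toLin'_apply, Matrix.toLin'_apply, ← Matrix.mulVec_mulVec, ← Matrix.mulVec_mulVec,
    ← Matrix.mulVec_mulVec, ← Matrix.mulVec_mulVec, hZ', hZ', hA, hA, hzg', hφg']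

end su

end Cfsg.Agent.Lib.Helper5.SemiConj
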